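import Mathlib

/-!
# The transfer evaluated at elements of prime order

Two evaluations: an element all of whose conjugates in the Sylow subgroup have the same value, and an
involution which is central in the Sylow subgroup.
-/

set_option autoImplicit false
set_option linter.style.haveILetI false

namespace Cfsg.Lib.TwoTimesAlt

open Subgroup MulAction

variable {G : Type*} [Group G] [Finite G] {p : ℕ} [hp : Fact p.Prime]

/-- Elements of order dividing `p` with constant value on their conjugates in `P`. -/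
theorem transfer_const (P : Sylow p G) {A : Type*} [CommGroup A] (φ : (P : Subgroup G) →* A)
    {u : G} {a : A} (hu : u ^ p = 1) (ha : a ^ p = 1)
    (h : ∀ g : G, ∀ hg : g⁻¹ * u * g ∈ (P : Subgroup G), φ ⟨_, hg⟩ = a) :
    MonoidHom.transfer φ u = a ^ (P : Subgroup G).index := by
  classical
  haveI := Fintype.ofFinite (G ⧸ (P : Subgroup G))
  haveI : Finite (orbitRel.Quotient (zpowers u) (G ⧸ (P : Subgroup G))) := Quotient.finite _
  haveI := Fintype.ofFinite (orbitRel.Quotient (zpowers u) (G ⧸ (P : Subgroup G)))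
  rw [MonoidHom.transfer_eq_prod_quotient_orbitRel_zpowers_quot]
  have hterm : ∀ q : orbitRel.Quotient (zpowers u) (G ⧸ (P : Subgroup G)),
      φ ⟨q.out.out⁻¹ * u ^ Function.minimalPeriod (u • ·) q.out * q.out.out,
        QuotientGroup.out_conj_pow_minimalPeriod_mem (P : Subgroup G) u q.out⟩ =
        a ^ Function.minimalPeriod (u • ·) q.out := by
    intro q
    have hmem := QuotientGroup.out_conj_pow_minimalPeriod_mem (P : Subgroup G) u q.out
    have hper : Function.minimalPeriod (u • ·) q.out ∣ p :=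
      pow_smul_eq_iff_minimalPeriod_dvd.1 (by rw [hu, one_smul])
    rcases (Nat.dvd_prime hp.out).1 hper with h1 | h2
    · simp only [h1, pow_one] at hmem ⊢
      exact h q.out.out hmem
    · simp only [h2, hu, mul_one, inv_mul_cancel] at hmem ⊢
      rw [show (⟨(1 : G), hmem⟩ : (P : Subgroup G)) = 1 from rfl, map_one, ha]
  rw [Finset.prod_congr rfl (fun q _ => hterm q), Finset.prod_pow_eq_pow_sum]
  congr 1
  exact (Subgroup.index_eq_sum_minimalPeriod (P : Subgroup G) u).symm

/-- An involution central in a Sylow `2`-subgroup whose normalizer conjugates keep the value. -/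
theorem transfer_central (S : Sylow 2 G) (φ : (S : Subgroup G) →* ℤˣ) {z : G} (hz : z ^ 2 = 1)
    (hzS : z ∈ (S : Subgroup G)) (hzc : ∀ s ∈ (S : Subgroup G), s * z = z * s)
    (hN : ∀ n ∈ normalizer ((S : Subgroup G) : Set G), ∀ hn : n⁻¹ * z * n ∈ (S : Subgroup G),
      φ ⟨_, hn⟩ = φ ⟨z, hzS⟩) :
    MonoidHom.transfer φ z = φ ⟨z, hzS⟩ := by
  classical
  haveI : Fact (Nat.Prime 2) := ⟨Nat.prime_two⟩
  set X := G ⧸ (S : Subgroup G)
  haveI := Fintype.ofFinite X
  haveI : Finite (orbitRel.Quotient (zpowers z) X) := Quotient.finite _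
  haveI := Fintype.ofFinite (orbitRel.Quotient (zpowers z) X)
  -- the value attached to a coset
  let val : X → ℤˣ := fun c => if hc : c.out⁻¹ * z * c.out ∈ (S : Subgroup G) then φ ⟨_, hc⟩ else 1
  have hfix : ∀ c : X, z • c = c ↔ c.out⁻¹ * z * c.out ∈ (S : Subgroup G) := by
    intro c
    conv_lhs => rw [← QuotientGroup.out_eq' c]
    rw [MulAction.Quotient.smul_mk, eq_comm, QuotientGroup.eq, smul_eq_mul, mul_assoc]
  have hcore : ∀ (g h : G) (_ : h ∈ (S : Subgroup G)) (h1 : g⁻¹ * z * g ∈ (S : Subgroup G))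
      (h2 : (g * h)⁻¹ * z * (g * h) ∈ (S : Subgroup G)), φ ⟨_, h2⟩ = φ ⟨_, h1⟩ := by
    intro g h hh h1 h2
    rw [show (⟨_, h2⟩ : (S : Subgroup G)) = ⟨h, hh⟩⁻¹ * ⟨_, h1⟩ * ⟨h, hh⟩ from
      Subtype.ext (by simp only [coe_mul, coe_inv]; group), map_mul, map_mul, map_inv,
      mul_comm (φ ⟨h, hh⟩)⁻¹, inv_mul_cancel_right]
  let P1 : Set X := {c | z • c = c ∧ val c = -1}
  have hP1 : ∀ (s : (S : Subgroup G)) (c : X), c ∈ P1 → (s : G) • c ∈ P1 := by
    rintro s c ⟨h1, h2⟩
    have h3 : z • (s : G) • c = (s : G) • c := by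
      rw [← mul_smul, ← hzc _ s.2, mul_smul, h1]
    refine ⟨h3, ?_⟩
    obtain ⟨k, hk⟩ := QuotientGroup.mk_out_eq_mul (S : Subgroup G) ((s : G) * c.out)
    have hc' : (s : G) • c = ((s : G) * c.out : G) := by
      conv_lhs => rw [← QuotientGroup.out_eq' c]
      rfl
    have hm1 := (hfix _).1 h1
    have hm2 := (hfix _).1 h3
    simp only [val, dif_pos hm1] at h2
    simp only [val, dif_pos hm2]
    have hm3 : ((s : G) * c.out)⁻¹ * z * ((s : G) * c.out) ∈ (S : Subgroup G) := by
      rw [show ((s : G) * c.out)⁻¹ * z * ((s : G) * c.out) = c.out⁻¹ * ((s : G)⁻¹ * (z * s)) * c.out by group,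
        ← hzc _ s.2, inv_mul_cancel_left]
      exact hm1
    have e1 : (⟨_, hm3⟩ : (S : Subgroup G)) = ⟨_, hm1⟩ := Subtype.ext (by
      show ((s : G) * c.out)⁻¹ * z * ((s : G) * c.out) = c.out⁻¹ * z * c.out
      rw [show ((s : G) * c.out)⁻¹ * z * ((s : G) * c.out) = c.out⁻¹ * ((s : G)⁻¹ * (z * s)) * c.out by group,
        ← hzc _ s.2, inv_mul_cancel_left])
    have hout : ((s : G) • c).out = ((s : G) * c.out) * (k : G) := by rw [hc', hk]
    rw [← h2, ← e1]
    simp only [hout]
    exact hcore _ _ k.2 hm3 _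
  letI : MulAction (S : Subgroup G) P1 :=
    { smul := fun s c => ⟨(s : G) • (c : X), hP1 s c c.2⟩
      one_smul := fun c => Subtype.ext (one_smul G (c : X))
      mul_smul := fun s t c => Subtype.ext (mul_smul (s : G) (t : G) (c : X)) }
  have hmod := S.isPGroup'.card_modEq_card_fixedPoints P1
  -- fixed cosets come from the normalizer
  have hnorm : ∀ c : X, (∀ s : (S : Subgroup G), (s : G) • c = c) →
      c.out ∈ normalizer ((S : Subgroup G) : Set G) := by
    intro c hc
    have hsub : (S : Subgroup G).map (MulAut.conj c.out⁻¹).toMonoidHom ≤ (S : Subgroup G) := by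
      rintro _ ⟨s, hs, rfl⟩
      show c.out⁻¹ * s * c.out⁻¹⁻¹ ∈ (S : Subgroup G)
      have h4 : s • c = c := hc ⟨s, hs⟩
      rw [← QuotientGroup.out_eq' c, MulAction.Quotient.smul_mk, eq_comm, QuotientGroup.eq, smul_eq_mul,
        ← mul_assoc] at h4
      rwa [inv_inv]
    have hinv : c.out⁻¹ ∈ normalizer ((S : Subgroup G) : Set G) :=
      mem_normalizer_fintype fun s hs => hsub ⟨s, hs, rfl⟩
    simpa using inv_mem hinv
  have hfixX : ∀ c : X, (∀ s : (S : Subgroup G), (s : G) • c = c) →
      z • c = c ∧ val c = φ ⟨z, hzS⟩ := by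
    intro c hc
    have h1 : z • c = c := hc ⟨z, hzS⟩
    refine ⟨h1, ?_⟩
    simp only [val, dif_pos ((hfix _).1 h1)]
    exact hN _ (hnorm c hc) _
  -- the parity of `P1`
  have hpar : (-1 : ℤˣ) ^ Nat.card P1 = φ ⟨z, hzS⟩ := by
    rcases Int.units_eq_one_or (φ ⟨z, hzS⟩) with e | e
    · haveI : IsEmpty (fixedPoints (S : Subgroup G) P1) := ⟨fun ⟨⟨c, hc⟩, hcf⟩ => by
        have h := (hfixX c fun s => congrArg Subtype.val (hcf s)).2
        rw [hc.2, e] at h
        exact absurd h (by decide)⟩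
      have h0 : Nat.card (fixedPoints (S : Subgroup G) P1) = 0 := Nat.card_of_isEmpty
      rw [h0] at hmod
      rw [e]
      exact Even.neg_one_pow (Nat.even_iff.2 hmod)
    · have hX := S.isPGroup'.card_modEq_card_fixedPoints X
      have hodd : (S : Subgroup G).index % 2 = 1 := Nat.two_dvd_ne_zero.mp S.not_dvd_index
      have hcc : Nat.card (fixedPoints (S : Subgroup G) P1) = Nat.card (fixedPoints (S : Subgroup G) X) := by
        refine Nat.card_congr ⟨fun c => ⟨(c.1 : X), fun s => congrArg Subtype.val (c.2 s)⟩,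
          fun c => ⟨⟨c.1, (hfixX _ c.2).1, (hfixX _ c.2).2.trans e⟩, fun s => Subtype.ext (c.2 s)⟩,
          fun _ => rfl, fun _ => rfl⟩
      rw [hcc] at hmod
      rw [e]
      refine Odd.neg_one_pow (Nat.odd_iff.2 ?_)
      rw [Nat.ModEq] at hmod hX
      rw [hmod, ← hX]
      exact hodd
  -- the transfer is the product of the values on the fixed cosets
  rw [MonoidHom.transfer_eq_prod_quotient_orbitRel_zpowers_quot]
  have hterm : ∀ q : orbitRel.Quotient (zpowers z) X,
      φ ⟨q.out.out⁻¹ * z ^ Function.minimalPeriod (z • ·) q.out * q.out.out,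
        QuotientGroup.out_conj_pow_minimalPeriod_mem (S : Subgroup G) z q.out⟩ =
        if q.out ∈ P1 then -1 else 1 := by
    intro q
    have hmem := QuotientGroup.out_conj_pow_minimalPeriod_mem (S : Subgroup G) z q.out
    have hper : Function.minimalPeriod (z • ·) q.out ∣ 2 :=
      pow_smul_eq_iff_minimalPeriod_dvd.1 (by rw [hz, one_smul])
    rcases (Nat.dvd_prime Nat.prime_two).1 hper with h1 | h2
    · have hq : z • q.out = q.out := by
        have := pow_smul_eq_iff_minimalPeriod_dvd (a := z) (b := q.out) (n := 1)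
        rw [h1, pow_one] at this
        exact this.2 dvd_rfl
      have hm : q.out.out⁻¹ * z * q.out.out ∈ (S : Subgroup G) := (hfix _).1 hq
      rw [show (⟨_, hmem⟩ : (S : Subgroup G)) = ⟨_, hm⟩ from Subtype.ext (congrArg (fun k => q.out.out⁻¹ * z ^ k * q.out.out) h1 |>.trans (by rw [pow_one]))]
      have hv : val q.out = φ ⟨_, hm⟩ := dif_pos hm
      rcases Int.units_eq_one_or (φ ⟨_, hm⟩) with e | e
      · rw [if_neg (fun h => by rw [h.2, e] at hv; exact absurd hv (by decide)), e]
      · rw [if_pos ⟨hq, hv.trans e⟩, e]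
    · rw [show (⟨_, hmem⟩ : (S : Subgroup G)) = 1 from
        Subtype.ext (congrArg (fun k => q.out.out⁻¹ * z ^ k * q.out.out) h2 |>.trans (by
          rw [hz, mul_one, inv_mul_cancel]; rfl)), map_one, if_neg]
      intro h
      have := pow_smul_eq_iff_minimalPeriod_dvd (a := z) (b := q.out) (n := 1)
      rw [h2, pow_one] at this
      exact absurd (this.1 h.1) (by decide)
  rw [Finset.prod_congr rfl fun q _ => hterm q, Finset.prod_ite, Finset.prod_const_one, mul_one,
    Finset.prod_const, ← hpar]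
  congr 1
  rw [← Fintype.card_subtype, ← Nat.card_eq_fintype_card]
  refine Nat.card_congr ⟨fun q => ⟨q.1.out, q.2⟩, fun c => ⟨Quotient.mk'' c.1, ?_⟩, fun q => ?_, fun c => ?_⟩
  all_goals first
    | exact Subtype.ext (Quotient.out_eq' q.1)
    | skip
  · have h0 : (Quotient.mk'' c.1 : orbitRel.Quotient (zpowers z) X).out ∈ orbit (zpowers z) c.1 :=
      Quotient.exact' (Quotient.out_eq' (Quotient.mk'' c.1 : orbitRel.Quotient (zpowers z) X))
    obtain ⟨⟨w, hw⟩, hwe⟩ := h0
    have : w • c.1 = c.1 := by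
      have : zpowers z ≤ stabilizer G c.1 := zpowers_le.2 c.2.1
      exact this hw
    rw [← hwe]
    show w • c.1 ∈ P1
    rw [this]
    exact c.2
  · refine Subtype.ext ?_
    have h0 : (Quotient.mk'' c.1 : orbitRel.Quotient (zpowers z) X).out ∈ orbit (zpowers z) c.1 :=
      Quotient.exact' (Quotient.out_eq' (Quotient.mk'' c.1 : orbitRel.Quotient (zpowers z) X))
    obtain ⟨⟨w, hw⟩, hwe⟩ := h0
    show (Quotient.mk'' c.1 : orbitRel.Quotient (zpowers z) X).out = c.1
    rw [← hwe]
    have : zpowers z ≤ stabilizer G c.1 := zpowers_le.2 c.2.1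
    exact this hw

end Cfsg.Lib.TwoTimesAlt
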