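import Cfsg.Agent.Lib.FusionSys.AltSimpleTwo
import Cfsg.Agent.Lib.Recog.TwoTimesAlt.Transfer
import Mathlib.GroupTheory.SpecificGroups.Alternating.Simple

/-!
# Central involutions of a Sylow 2-subgroup of an alternating group

For `m ≥ 6` they vanish under every homomorphism of the Sylow subgroup to `±1`.
-/

set_option autoImplicit false
set_option linter.style.haveILetI false

namespace Cfsg.Lib.TwoTimesAlt

open Subgroup Equiv
open scoped Pointwise
open Cfsg.Lib.FusionSys.AltWreath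

local instance factTwo : Fact (Nat.Prime 2) := ⟨Nat.prime_two⟩

theorem normalizer_sylow_le_self {m : ℕ} (hm : 6 ≤ m) (Q : Sylow 2 (alternatingGroup (Fin m))) :
    normalizer ((Q : Subgroup (alternatingGroup (Fin m))) : Set (alternatingGroup (Fin m))) ≤ Q := by
  classical
  obtain ⟨P⟩ : Nonempty (Sylow 2 (Perm (Fin (m / 2)))) := inferInstance
  obtain ⟨W, hW⟩ := exists_sylow_wr (p := 2) (ι := Fin (m % 2))
    (by rw [Nat.card_fin]; exact Nat.mod_lt _ (by omega)) P
  obtain ⟨Q₀, hQ₀⟩ := exists_sylow_alt W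
  rw [hW] at hQ₀
  have h0 := Two.normalizer_eq (by omega) (by omega) P _ hQ₀
  obtain ⟨f⟩ : Nonempty (Fin m ≃ Pt 2 (Fin (m / 2)) (Fin (m % 2))) := by
    refine ⟨(Finite.equivFinOfCardEq (n := m) ?_).symm⟩
    rw [Nat.card_sum, Nat.card_prod, Nat.card_zmod, Nat.card_fin, Nat.card_fin, Nat.div_add_mod]
  set e : alternatingGroup (Fin m) ≃* alternatingGroup (Pt 2 (Fin (m / 2)) (Fin (m % 2))) :=
    f.altCongrHom
  obtain ⟨g, hg⟩ := MulAction.exists_smul_eq (alternatingGroup (Pt 2 (Fin (m / 2)) (Fin (m % 2)))) Q₀ (Q.mapSurjective (f := e.toMonoidHom) e.surjective)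
  intro x hx
  have hQ' : (Q : Subgroup (alternatingGroup (Fin m))).map e.toMonoidHom =
      (Q₀ : Subgroup _).map (MulAut.conj g).toMonoidHom := by
    have := congrArg (fun R : Sylow 2 _ => (R : Subgroup (alternatingGroup (Pt 2 (Fin (m / 2)) (Fin (m % 2)))))) hg
    exact this.symm
  have h1 : e x ∈ normalizer (((Q : Subgroup (alternatingGroup (Fin m))).map e.toMonoidHom : Subgroup _) :
      Set (alternatingGroup (Pt 2 (Fin (m / 2)) (Fin (m % 2))))) :=
    le_normalizer_map e.toMonoidHom ⟨x, hx, rfl⟩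
  rw [hQ', ← map_equiv_normalizer_eq] at h1
  have h2 := map_mono h0 h1
  rw [← hQ'] at h2
  obtain ⟨y, hy, hyx⟩ := h2
  exact e.injective hyx ▸ hy

theorem hom_eq_one_of_central {m : ℕ} (hm : 6 ≤ m) (Q : Sylow 2 (alternatingGroup (Fin m)))
    (ψ : (Q : Subgroup (alternatingGroup (Fin m))) →* ℤˣ) {z : alternatingGroup (Fin m)} (hz : z ^ 2 = 1)
    (hzQ : z ∈ (Q : Subgroup (alternatingGroup (Fin m)))) (hzc : ∀ s ∈ (Q : Subgroup _), s * z = z * s) :
    ψ ⟨z, hzQ⟩ = 1 := by
  haveI : IsSimpleGroup (alternatingGroup (Fin m)) := alternatingGroup.isSimpleGroup (by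
    rw [Nat.card_fin]; omega)
  have htr := transfer_central Q ψ hz hzQ hzc fun n hn hnz => congrArg ψ (Subtype.ext (by
    show n⁻¹ * z * n = z
    rw [mul_assoc, ← hzc n (normalizer_sylow_le_self hm Q hn), inv_mul_cancel_left]))
  rw [← htr]
  set V := MonoidHom.transfer ψ
  rcases (inferInstance : V.ker.Normal).eq_bot_or_eq_top with h | h
  · exfalso
    have h1 := Nat.card_le_card_of_injective _ ((MonoidHom.ker_eq_bot_iff _).1 h)
    haveI : Nontrivial (Fin m) := Fin.nontrivial_iff_two_le.2 (by omega)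
    have h2 := two_mul_card_alternatingGroup (α := Fin m)
    rw [Fintype.card_perm, Fintype.card_fin, ← Nat.card_eq_fintype_card] at h2
    have h3 : Nat.card ℤˣ = 2 := by rw [Nat.card_eq_fintype_card]; rfl
    rw [h3] at h1
    have h4 : Nat.factorial 6 ≤ Nat.factorial m := Nat.factorial_le hm
    have h5 : Nat.factorial 6 = 720 := rfl
    omega
  · exact MonoidHom.mem_ker.1 (h ▸ mem_top z)

end Cfsg.Lib.TwoTimesAlt
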