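import Cfsg.Agent.Lib.Recog.TwoTimesAlt.ReeOrder
import Cfsg.Agent.Lib.Recog.TwoTimesAlt.Transfer
import Cfsg.Agent.Lib.Dickson.Orders
import Cfsg.Agent.S1011
import Cfsg.Agent.S0813

/-!
# The group of order 1512 is the automorphism group of `PSL(2, 8)`
-/

set_option autoImplicit false
set_option linter.style.haveILetI false
set_option linter.unusedSectionVars false

namespace Cfsg.Lib.TwoTimesAlt.Ree

open Subgroup MulAction Cfsg Cfsg.Lib

section PGroup

variable {R : Type*} [Group R] [Finite R]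

/-- In a group of order 27 a non-normal cyclic subgroup of order three survives in some quotient of
order three. -/
theorem exists_hom {d : R} (hR : Nat.card R = 27) (hd : orderOf d = 3) (hn : ¬ (zpowers d).Normal) :
    ∃ φ : R →* Multiplicative (ZMod 3), φ d ≠ 1 := by
  haveI : Fact (Nat.Prime 3) := ⟨Nat.prime_three⟩
  by_cases hM : ∃ M : Subgroup R, IsCoatom M ∧ d ∉ M
  · obtain ⟨M, hM, hdM⟩ := hM
    have hp : IsPGroup 3 R := IsPGroup.of_card (n := 3) (by rw [hR]; rfl)
    obtain ⟨k, hk⟩ := (hp.to_subgroup M).exists_card_eq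
    have hlt : Nat.card M < 27 := by
      refine lt_of_le_of_ne (hR ▸ M.card_le_card_group) fun e => hM.1 ?_
      exact eq_top_of_card_eq M (by rw [e, hR])
    have hk3 : k < 3 := by
      by_contra hge
      have : 3 ^ 3 ≤ 3 ^ k := Nat.pow_le_pow_right (by norm_num) (by omega)
      omega
    obtain ⟨K, hK, hMK⟩ := Sylow.exists_subgroup_card_pow_succ
      (hR ▸ (Nat.pow_dvd_pow 3 (by omega : k + 1 ≤ 3))) hk
    have hKt : K = ⊤ := hM.2 K (lt_of_le_of_ne hMK fun e => by
      rw [e, hK, pow_succ] at hk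
      have : 0 < 3 ^ k := by positivity
      omega)
    have hidx : M.index = 3 := by
      have h1 := card_mul_index M
      rw [hKt, card_top] at hK
      rw [hk, ← Subgroup.card_top (G := R), card_top, hK, pow_succ] at h1
      exact Nat.eq_of_mul_eq_mul_left (by positivity) h1
    haveI : M.Normal := normal_of_index_eq_minFac_card (by
      rw [hidx, hR, show (27 : ℕ) = 3 ^ 3 from rfl, Nat.pow_minFac (by norm_num), Nat.prime_three.minFac_eq])
    let e : R ⧸ M ≃* Multiplicative (ZMod 3) := mulEquivOfPrimeCardEq (p := 3)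
      (by rw [← index_eq_card, hidx]) (by simp)
    refine ⟨e.toMonoidHom.comp (QuotientGroup.mk' M), fun h => hdM ?_⟩
    exact (QuotientGroup.eq_one_iff d).1 (e.injective (h.trans (map_one e).symm))
  · exfalso
    push Not at hM
    have hdF : d ∈ frattini R := by
      simp only [frattini, Order.radical, Subgroup.mem_iInf, Set.mem_ofPred_eq]
      exact hM
    have hdvd : Nat.card (frattini R) ∈ Nat.divisors 27 :=
      Nat.mem_divisors.2 ⟨hR ▸ card_subgroup_dvd_card _, by norm_num⟩
    have key : ∀ k ∈ Nat.divisors 27, k = 1 ∨ k = 3 ∨ k = 9 ∨ k = 27 := by decide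
    rcases key _ hdvd with e | e | e | e
    · rw [eq_bot_of_card_eq _ e, mem_bot] at hdF
      rw [hdF, orderOf_one] at hd
      omega
    · refine hn ?_
      rw [eq_of_le_of_card_ge (zpowers_le.2 hdF) (by rw [Nat.card_zpowers, hd, e])]
      infer_instance
    · obtain ⟨x, hx⟩ : ∃ x, x ∉ frattini R := by
        by_contra hall
        push Not at hall
        rw [(eq_top_iff' _).2 hall, card_top, hR] at e
        omega
      have hx9 : ∀ L : Subgroup R, frattini R ≤ L → x ∈ L → L = ⊤ := fun L hL hxL => by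
        refine eq_top_of_card_eq L ?_
        have h1 : 9 ∣ Nat.card L := e ▸ card_dvd_of_le hL
        have hd' : Nat.card L ∈ Nat.divisors 27 :=
          Nat.mem_divisors.2 ⟨hR ▸ card_subgroup_dvd_card _, by norm_num⟩
        rcases key _ hd' with f | f | f | f <;> rw [f] at h1 ⊢ <;> try omega
        · exfalso
          exact hx (eq_of_le_of_card_ge hL (by rw [e, f]) ▸ hxL)
      have hz := frattini_nongenerating (hx9 (zpowers x ⊔ frattini R) le_sup_right
        (mem_sup_left (mem_zpowers x)))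
      refine hn ⟨fun y hy g => ?_⟩
      obtain ⟨a, ha⟩ : g ∈ zpowers x := hz ▸ mem_top g
      obtain ⟨b, hb⟩ : y ∈ zpowers x := hz ▸ mem_top y
      have hcomm : Commute g y := by rw [← ha, ← hb]; exact Commute.zpow_zpow_self x a b
      rwa [hcomm.eq, mul_inv_cancel_right]
    · have hF : frattini R = ⊤ := eq_top_of_card_eq _ (by rw [e, hR])
      have hb : (⊥ : Subgroup R) = ⊤ := frattini_nongenerating (by rw [hF, bot_sup_eq])
      have := congrArg (fun L : Subgroup R => Nat.card L) hb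
      simp only [card_bot, card_top, hR] at this
      omega

end PGroup

variable {G : Type*} [Group G] [Finite G] {S : Sylow 2 G} (h : Hyp S)
include h

/-- A normal subgroup of index three. -/
theorem exists_normal : ∃ N : Subgroup G, N.Normal ∧ N.index = 3 := by
  haveI : Fact (Nat.Prime 3) := ⟨Nat.prime_three⟩
  haveI : Fact (Nat.Prime 2) := ⟨Nat.prime_two⟩
  obtain ⟨d₀, hd₀⟩ := exists_prime_orderOf_dvd_card' (G := HN S) 3 (by rw [h.cardH]; norm_num)
  set d : G := (d₀ : G)
  have hdH : d ∈ HN S := d₀.2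
  have hd : orderOf d = 3 := by rw [show d = (d₀ : G) from rfl, orderOf_coe, hd₀]
  obtain ⟨R, hR⟩ := (IsPGroup.of_card (n := 1) (by rw [Nat.card_zpowers, hd, pow_one]) :
    IsPGroup 3 (zpowers d)).exists_le_sylow
  have hdR : d ∈ (R : Subgroup G) := hR (mem_zpowers d)
  have hR27 : Nat.card (R : Subgroup G) = 27 := by
    rw [R.card_eq_multiplicity, card_G h]
    rw [show (1512 : ℕ) = 3 ^ 3 * 56 from rfl, Nat.factorization_mul (by norm_num) (by norm_num),
      Finsupp.add_apply, Nat.Prime.factorization_pow Nat.prime_three, Finsupp.single_eq_same,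
      Nat.factorization_eq_zero_of_not_dvd (by norm_num : ¬ 3 ∣ 56)]
    rfl
  have hRH : HN S ⊓ (R : Subgroup G) = zpowers d := by
    refine (eq_of_le_of_card_ge (le_inf (zpowers_le.2 hdH) hR) ?_).symm
    rw [Nat.card_zpowers, hd]
    have h1 : Nat.card (HN S ⊓ (R : Subgroup G) : Subgroup G) ∣ Nat.gcd 168 27 :=
      Nat.dvd_gcd (h.cardH ▸ card_dvd_of_le inf_le_left) (hR27 ▸ card_dvd_of_le inf_le_right)
    exact Nat.le_of_dvd (by norm_num) h1
  -- transitivity of `R` on the cosets
  let o : G ⧸ HN S := QuotientGroup.mk 1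
  have hst : stabilizer (R : Subgroup G) o = (zpowers d).subgroupOf (R : Subgroup G) := by
    ext r
    rw [mem_stabilizer_iff, mem_subgroupOf, ← hRH, mem_inf, and_iff_left r.2]
    exact Invol.smul_coset_one_eq
  have horb : orbit (R : Subgroup G) o = Set.univ := by
    refine Set.eq_univ_of_univ_subset (le_of_eq ?_)
    symm
    refine Set.eq_of_subset_of_ncard_le (Set.subset_univ _) ?_
    have h1 := card_mul_index ((zpowers d).subgroupOf (R : Subgroup G))
    rw [Nat.card_congr (subgroupOfEquivOfLe hR).toEquiv, Nat.card_zpowers, hd, hR27, ← hst,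
      index_stabilizer] at h1
    rw [Set.ncard_univ, card_coset h]
    omega
  have htr : ∀ c : G ⧸ HN S, ∃ r ∈ (R : Subgroup G), r • o = c := fun c => by
    obtain ⟨r, hr⟩ : c ∈ orbit (R : Subgroup G) o := horb ▸ Set.mem_univ c
    exact ⟨r, r.2, hr⟩
  have hd1 : d ≠ 1 := fun e => by rw [e, orderOf_one] at hd; omega
  have hsplit : ∀ x ∈ zpowers d, x ≠ 1 → x = d ∨ x = d⁻¹ := by
    intro x hx hx1
    obtain ⟨k, rfl⟩ := hx
    dsimp only at hx1 ⊢
    rw [← zpow_mod_orderOf, hd] at hx1 ⊢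
    rcases (by omega : k % 3 = 0 ∨ k % 3 = 1 ∨ k % 3 = 2) with e | e | e
    · exact absurd (by rw [show ((3 : ℕ) : ℤ) = 3 from rfl, e, zpow_zero]) hx1
    · left; rw [show ((3 : ℕ) : ℤ) = 3 from rfl, e, zpow_one]
    · right
      rw [show ((3 : ℕ) : ℤ) = 3 from rfl, e, zpow_two]
      exact eq_inv_of_mul_eq_one_left (by rw [mul_assoc, ← pow_three, ← hd, pow_orderOf_eq_one])
  -- the fixed points of `d` form an orbit of a `3`-group
  set K : Subgroup G := (R : Subgroup G) ⊓ normalizer (zpowers d : Set G)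
  have hfix : {c : G ⧸ HN S | d • c = c} = orbit K o := by
    ext c
    constructor
    · intro hc
      obtain ⟨r, hr, rfl⟩ := htr c
      have h1 : r⁻¹ * d * r ∈ zpowers d := by
        rw [← hRH]
        refine mem_inf.2 ⟨Invol.smul_coset_one_eq.1 ?_, mul_mem (mul_mem (inv_mem hr) hdR) hr⟩
        rw [mul_smul, mul_smul, hc, inv_smul_smul]
      have h2 : r⁻¹ * d * r ≠ 1 := fun e => hd1 (by
        have := congrArg (fun x => r * x * r⁻¹) e
        simpa [mul_assoc] using this)
      have hmap : (zpowers d).map (MulAut.conj r⁻¹).toMonoidHom = zpowers d := by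
        refine eq_of_le_of_card_ge ?_ (by rw [card_conj])
        rw [MonoidHom.map_zpowers, zpowers_le]
        simpa using h1
      exact ⟨⟨r, mem_inf.2 ⟨hr, inv_inv r ▸ inv_mem (Core.mem_normalizer_iff_map_conj.2 hmap)⟩⟩, rfl⟩
    · rintro ⟨⟨r, hr, hrn⟩, rfl⟩
      show d • r • o = r • o
      have h1 : r⁻¹ * d * r ∈ HN S := by
        have := (mem_normalizer_iff''.1 hrn d).1 (mem_zpowers d)
        exact (show zpowers d ≤ HN S from zpowers_le.2 hdH) this
      calc d • r • o = r • ((r⁻¹ * d * r) • o) := by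
            rw [mul_smul, mul_smul, smul_inv_smul]
        _ = r • o := by rw [Invol.smul_coset_one_eq.2 h1]
  -- `d` is not inverted
  have hninv : ∀ g : G, g * d * g⁻¹ ≠ d⁻¹ := by
    intro g hg
    obtain ⟨a, b, hb, hab⟩ := Nat.exists_eq_two_pow_mul_odd (orderOf_pos g).ne'
    obtain ⟨j, hj⟩ := hb
    have hg2 : ∀ i : ℕ, g ^ (2 * i + 1) * d * (g ^ (2 * i + 1))⁻¹ = d⁻¹ := by
      intro i
      induction i with
      | zero => simpa using hg
      | succ i ih =>
        rw [show 2 * (i + 1) + 1 = 1 + (1 + (2 * i + 1)) by ring, pow_add, pow_add, pow_one]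
        calc g * (g * g ^ (2 * i + 1)) * d * (g * (g * g ^ (2 * i + 1)))⁻¹
            = g * (g * (g ^ (2 * i + 1) * d * (g ^ (2 * i + 1))⁻¹) * g⁻¹) * g⁻¹ := by group
          _ = g * (g * d * g⁻¹)⁻¹ * g⁻¹ := by rw [ih]; group
          _ = d⁻¹ := by rw [hg, inv_inv, hg]
    set y := g ^ b with hy
    have hyd : y * d * y⁻¹ = d⁻¹ := by rw [hy, hj]; exact hg2 j
    have hyp : y ^ 2 ^ a = 1 := by rw [hy, ← pow_mul, mul_comm, ← hab, pow_orderOf_eq_one]
    obtain ⟨i, _, hi⟩ := (Nat.dvd_prime_pow Nat.prime_two).1 (orderOf_dvd_of_pow_eq_one hyp)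
    obtain ⟨k, hk⟩ := exists_conj_mem (S := S) (x := y)
      (IsPGroup.of_card (n := i) (by rw [Nat.card_zpowers, hi]))
    have hy1 : y ≠ 1 := fun e => by
      rw [e] at hyd
      have h2 : d ^ 2 = 1 := by
        rw [pow_two]; nth_rewrite 2 [show d = d⁻¹ by simpa using hyd]; exact mul_inv_cancel d
      have := orderOf_dvd_of_pow_eq_one h2
      rw [hd] at this
      omega
    have hy2 : orderOf y = 2 := by
      rw [← Invol.orderOf_conj_eq k]
      exact orderOf_eq_two h hk (fun e => hy1 (conj_eq_one_iff.1 e))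
    classical
    haveI := Fintype.ofFinite {c : G ⧸ HN S // d • c = c}
    have hyF : ∀ c : G ⧸ HN S, d • c = c → d • y • c = y • c := by
      intro c hc
      have h1 : d⁻¹ • c = c := by rw [inv_smul_eq_iff, hc]
      calc d • y • c = y • (y⁻¹ * d * y) • c := by rw [mul_smul, mul_smul, smul_inv_smul]
        _ = y • c := by
          have hyd' : y⁻¹ * d * y = d⁻¹ := by
            have := hyd
            rwa [Invol.inv_eq_self hy2] at this ⊢
          rw [hyd', h1]
    have hysq : ∀ c : G ⧸ HN S, y • y • c = c := fun c => by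
      rw [← mul_smul, Invol.inv_mul_self hy2, one_smul]
    let σ : Equiv.Perm {c : G ⧸ HN S // d • c = c} :=
      ⟨fun c => ⟨y • c.1, hyF _ c.2⟩, fun c => ⟨y • c.1, hyF _ c.2⟩,
        fun c => Subtype.ext (hysq c.1), fun c => Subtype.ext (hysq c.1)⟩
    have hcardF : ¬ 2 ∣ Fintype.card {c : G ⧸ HN S // d • c = c} := by
      rw [← Nat.card_eq_fintype_card]
      have hKp : IsPGroup 3 K := R.isPGroup'.to_le inf_le_left
      obtain ⟨n, hn⟩ := hKp.card_orbit o
      rw [show Nat.card {c : G ⧸ HN S // d • c = c} = Nat.card (orbit K o) by rw [← hfix]; rfl, hn]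
      intro h2
      have := Nat.prime_two.dvd_of_dvd_pow h2
      omega
    haveI : Fact (Nat.Prime 2) := ⟨Nat.prime_two⟩
    obtain ⟨⟨c, hc⟩, hσ⟩ := Equiv.Perm.exists_fixed_point_of_prime (n := 1) hcardF (σ := σ)
      (by ext c; exact hysq c.1)
    have hyc : y • c = c := congrArg Subtype.val hσ
    obtain ⟨r, rfl⟩ := QuotientGroup.mk_surjective c
    have hd' := Invol.smul_coset_eq_iff.1 hc
    have hy' := Invol.smul_coset_eq_iff.1 hyc
    have hy'o : orderOf (r⁻¹ * y * r) = 2 := by
      have := Invol.orderOf_conj_eq r⁻¹ y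
      rw [inv_inv] at this
      rw [this, hy2]
    have hy'S := mem_of_involution hy'o hy'
    have h1 : (r⁻¹ * d * r) * (r⁻¹ * y * r) * (r⁻¹ * d * r)⁻¹ * (r⁻¹ * y * r)⁻¹ ∈ (S : Subgroup G) :=
      mul_mem (conj_mem_S hd' hy'S) (inv_mem hy'S)
    have h2 : (r⁻¹ * d * r) * (r⁻¹ * y * r) * (r⁻¹ * d * r)⁻¹ * (r⁻¹ * y * r)⁻¹ = r⁻¹ * (d * d) * r := by
      calc _ = r⁻¹ * (d * (y * d * y⁻¹)⁻¹) * r := by group
        _ = _ := by rw [hyd, inv_inv]
    rw [h2] at h1
    have hd3 : (r⁻¹ * (d * d) * r) ^ 3 = 1 := by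
      have := conj_pow (i := 3) (a := r⁻¹) (b := d * d)
      rw [inv_inv] at this
      rw [this, show (d * d) ^ 3 = (d ^ 3) ^ 2 by rw [← pow_two, ← pow_mul, ← pow_mul, mul_comm],
        ← hd, pow_orderOf_eq_one, one_pow, mul_one, inv_mul_cancel]
    have h3 : r⁻¹ * (d * d) * r = 1 :=
      orderOf_eq_one_iff.1 (Nat.eq_one_of_dvd_coprimes (by norm_num : Nat.Coprime 2 3)
        (orderOf_dvd_of_pow_eq_one (by rw [pow_two]; exact h.sq _ h1)) (orderOf_dvd_of_pow_eq_one hd3))
    have h4 : d ^ 2 = 1 := by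
      have := congrArg (fun x => r * x * r⁻¹) h3
      simpa [mul_assoc, pow_two] using this
    have := orderOf_dvd_of_pow_eq_one h4
    rw [hd] at this
    omega
  -- the homomorphism
  have hnn : ¬ (zpowers (⟨d, hdR⟩ : (R : Subgroup G))).Normal := by
    intro hn
    refine hd1 (core_eq_one h fun c => ?_)
    obtain ⟨r, hr, rfl⟩ := htr c
    have h1 := hn.conj_mem _ (mem_zpowers _) (⟨r, hr⟩ : (R : Subgroup G))⁻¹
    obtain ⟨k, hk⟩ := h1
    have h2 : r⁻¹ * d * r ∈ HN S := by
      have := congrArg Subtype.val hk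
      simp only [SubgroupClass.coe_zpow, Subgroup.coe_mul, InvMemClass.coe_inv, inv_inv] at this
      exact this ▸ zpow_mem hdH k
    calc d • r • o = r • ((r⁻¹ * d * r) • o) := by rw [mul_smul, mul_smul, smul_inv_smul]
      _ = r • o := by rw [Invol.smul_coset_one_eq.2 h2]
  obtain ⟨φ, hφ⟩ := exists_hom (d := (⟨d, hdR⟩ : (R : Subgroup G))) hR27 ((Subgroup.orderOf_mk _ _).trans hd) hnn
  set a := φ ⟨d, hdR⟩
  have hA : ∀ x : Multiplicative (ZMod 3), x ^ 3 = 1 := fun x => by
    have := pow_card_eq_one' (x := x)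
    simpa using this
  have hV : MonoidHom.transfer φ d = a ^ (R : Subgroup G).index := by
    refine transfer_const R φ (by rw [← hd, pow_orderOf_eq_one]) (hA a) fun g hg => ?_
    obtain ⟨r, hr, hrc⟩ := htr (QuotientGroup.mk g⁻¹)
    set x := g⁻¹ * d * g
    have hxfix : x • r • o = r • o := by
      rw [hrc, Invol.smul_coset_eq_iff, inv_inv]
      rw [show g * (g⁻¹ * d * g) * g⁻¹ = d by group]
      exact hdH
    have h1 : r⁻¹ * x * r ∈ zpowers d := by
      rw [← hRH]
      exact mem_inf.2 ⟨Invol.smul_coset_one_eq.1 (by rw [mul_smul, mul_smul, hxfix, inv_smul_smul]),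
        mul_mem (mul_mem (inv_mem hr) hg) hr⟩
    have hconj : r⁻¹ * x * r = (r⁻¹ * g⁻¹) * d * (r⁻¹ * g⁻¹)⁻¹ := by
      rw [show x = g⁻¹ * d * g from rfl]; group
    rcases hsplit _ h1 (fun e => hd1 (conj_eq_one_iff.1 (hconj ▸ e))) with e | e
    · have : (⟨x, hg⟩ : (R : Subgroup G)) = ⟨r, hr⟩ * ⟨d, hdR⟩ * ⟨r, hr⟩⁻¹ :=
        Subtype.ext (show x = r * d * r⁻¹ by rw [← e]; group)
      rw [this, map_mul, map_mul, map_inv, mul_right_comm, mul_inv_cancel, one_mul]
    · exact absurd (hconj ▸ e) (hninv _)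
  have hidx : (R : Subgroup G).index = 56 := by
    have := card_mul_index (R : Subgroup G)
    rw [hR27, card_G h] at this
    omega
  set V := MonoidHom.transfer φ
  have hV1 : V d ≠ 1 := by
    rw [hV, hidx, show (56 : ℕ) = 3 * 18 + 2 from rfl, pow_add, pow_mul, hA, one_pow, one_mul]
    intro h2
    refine hφ ?_
    have h3 := hA a
    rw [pow_succ, h2, one_mul] at h3
    exact h3
  refine ⟨V.ker, inferInstance, ?_⟩
  have hne : V.range ≠ ⊥ := fun e => hV1 (by
    have : V d ∈ V.range := ⟨d, rfl⟩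
    rwa [e, mem_bot] at this)
  have hc3 : Nat.card (Multiplicative (ZMod 3)) = 3 := by simp
  rw [index_ker]
  exact ((Nat.dvd_prime Nat.prime_three).1 ((card_subgroup_dvd_card V.range).trans (dvd_of_eq hc3))).resolve_left
    fun e => hne (eq_bot_of_card_eq _ e)

/-- The normal subgroup of index three is simple. -/
theorem simple {N : Subgroup G} (hN : N.Normal) (hidx : N.index = 3) : IsSimpleGroup N := by
  haveI : Fact (Nat.Prime 2) := ⟨Nat.prime_two⟩
  haveI : Fact (Nat.Prime 7) := ⟨by norm_num⟩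
  have hNc : Nat.card N = 504 := by
    have := card_mul_index N
    rw [hidx, card_G h] at this
    omega
  have hcop : ∀ x : G, Nat.Coprime (orderOf x) 3 → x ∈ N := fun x hx => by
    rw [← QuotientGroup.eq_one_iff x, ← orderOf_eq_one_iff]
    exact Nat.eq_one_of_dvd_coprimes hx (orderOf_map_dvd (QuotientGroup.mk' N) x)
      (hidx ▸ index_eq_card N ▸ orderOf_dvd_natCard _)
  have hSN : (S : Subgroup G) ≤ N := fun s hs => by
    by_cases hs1 : s = 1
    · rw [hs1]; exact one_mem N
    · exact hcop s (by rw [orderOf_eq_two h hs hs1]; norm_num)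
  obtain ⟨P, hP⟩ := exists_P7 h
  have hPN : P ≤ N := fun y hy => by
    by_cases hy1 : y = 1
    · rw [hy1]; exact one_mem N
    · exact hcop y (by rw [orderOf_of_P7 hP hy hy1]; norm_num)
  set S' : Sylow 2 N := S.subtype hSN
  have hS' : ∀ x : N, x ∈ (S' : Subgroup N) ↔ (x : G) ∈ (S : Subgroup G) := fun x => Iff.rfl
  have hS'c : Nat.card (S' : Subgroup N) = 8 :=
    (Nat.card_congr (subgroupOfEquivOfLe hSN).toEquiv).trans h.card
  set M := normalizer ((S' : Subgroup N) : Set N)
  have hM : ∀ x : N, x ∈ M → (x : G) ∈ HN S := by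
    intro x hx
    refine Core.mem_normalizer_iff_map_conj.2 (eq_of_le_of_card_ge ?_ (by rw [card_conj]))
    rintro _ ⟨s, hs, rfl⟩
    exact (mem_normalizer_iff.1 hx ⟨s, hSN hs⟩).1 hs
  have hMdvd : Nat.card M ∣ 56 := by
    have h1 : Nat.card M ∣ 168 := by
      rw [← Core.card_map_subtype, ← h.cardH]
      refine card_dvd_of_le ?_
      rintro _ ⟨x, hx, rfl⟩
      exact hM x hx
    obtain ⟨d, hd⟩ := exists_prime_orderOf_dvd_card' (G := HN S) 3 (hp := ⟨Nat.prime_three⟩)
      (by rw [h.cardH]; norm_num)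
    have h2 : Nat.card M ∣ 504 := hNc ▸ card_subgroup_dvd_card M
    have h3 : Nat.card M ≠ 168 := by
      intro e
      have hMH : M.map N.subtype = HN S := eq_of_le_of_card_ge (by
        rintro _ ⟨x, hx, rfl⟩; exact hM x hx) (by rw [Core.card_map_subtype, e, h.cardH])
      have hHN : HN S ≤ N := hMH ▸ map_subtype_le _
      -- then the normal subgroup contains a Sylow normalizer
      have hFr := Sylow.normalizer_sup_eq_top' (N := N) S hSN
      rw [← Sylow.coe_coe, sup_eq_right.2 hHN] at hFr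
      rw [hFr, index_top] at hidx
      omega
    have key : ∀ k ∈ Nat.divisors 168, k ∣ 504 → k ≠ 168 → k ∣ 56 ∨ 3 ∣ k := by decide
    rcases key _ (Nat.mem_divisors.2 ⟨h1, by norm_num⟩) h2 h3 with e | e
    · exact e
    exfalso
    obtain ⟨z, hz⟩ := exists_prime_orderOf_dvd_card' (G := M) 3 (hp := ⟨Nat.prime_three⟩) e
    set w : G := ((z : N) : G)
    have hw : orderOf w = 3 := by rw [show w = ((z : N) : G) from rfl, orderOf_coe, orderOf_coe, hz]
    have hwH : w ∈ HN S := hM _ z.2
    -- the subgroup generated by `S`, `P` and `w` is the whole normalizer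
    have h56 : 56 * 3 ∣ Nat.card (HN S ⊓ N : Subgroup G) := by
      refine Nat.Coprime.mul_dvd_of_dvd_of_dvd (by norm_num) ?_ ?_
      · rw [show (56 : ℕ) = 8 * 7 from rfl]
        exact Nat.Coprime.mul_dvd_of_dvd_of_dvd (by norm_num) (h.card ▸ card_dvd_of_le (le_inf le_normalizer hSN))
          (hP.2 ▸ card_dvd_of_le (le_inf hP.1 hPN))
      · exact hw ▸ orderOf_dvd_natCard _ ⟨hwH, (z : N).2⟩
    have hHN : HN S ≤ N := by
      rw [← eq_of_le_of_card_ge (inf_le_left : HN S ⊓ N ≤ HN S) (by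
        rw [h.cardH]; exact Nat.le_of_dvd Nat.card_pos h56)]
      exact inf_le_right
    have hFr := Sylow.normalizer_sup_eq_top' (N := N) S hSN
    rw [← Sylow.coe_coe, sup_eq_right.2 hHN] at hFr
    rw [hFr, index_top] at hidx
    omega
  refine { exists_pair_ne := ?_, eq_bot_or_eq_top_of_normal := fun K hK => ?_ }
  · haveI : Nontrivial N := Finite.one_lt_card_iff_nontrivial.1 (by rw [hNc]; norm_num)
    exact exists_pair_ne N
  by_contra hcon
  push Not at hcon
  obtain ⟨hKb, hKt⟩ := hcon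
  have hKG : ∀ x ∈ (S : Subgroup G), ∀ z ∈ K.map N.subtype, x * z * x⁻¹ ∈ K.map N.subtype := by
    rintro x hx _ ⟨z, hz, rfl⟩
    exact ⟨_, hK.conj_mem z hz ⟨x, hSN hx⟩, rfl⟩
  have hKn : ∀ L : Subgroup N, L.Normal → (S : Subgroup G) ≤ normalizer ((L.map N.subtype : Subgroup G) : Set G) := by
    intro L hL x hx
    refine Core.mem_normalizer_iff_map_conj.2 (eq_of_le_of_card_ge ?_ (by rw [card_conj]))
    rintro _ ⟨_, ⟨z, hz, rfl⟩, rfl⟩
    exact ⟨_, hL.conj_mem z hz ⟨x, hSN hx⟩, rfl⟩
  have heven : Even (Nat.card K) := by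
    rw [← Nat.not_odd_iff_even]
    intro ho
    refine hKb ((map_eq_bot_iff_of_injective K (subtype_injective N)).1 (odd_bot h ?_ (hKn K hK)))
    rwa [Core.card_map_subtype]
  obtain ⟨t, ht, ht2⟩ := Invol.exists_involution_of_even heven
  obtain ⟨T, hT⟩ := (IsPGroup.of_card (n := 1) (by rw [Nat.card_zpowers, ht2, pow_one]) :
    IsPGroup 2 (zpowers t)).exists_le_sylow
  obtain ⟨g, hg⟩ := exists_smul_eq N T S'
  have hs : g * t * g⁻¹ ∈ (S' : Subgroup N) := by
    rw [← hg, Sylow.coe_subgroup_smul]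
    exact ⟨t, hT (mem_zpowers t), rfl⟩
  have hsK : g * t * g⁻¹ ∈ K := hK.conj_mem t ht g
  have hs1 : ((g * t * g⁻¹ : N) : G) ≠ 1 := fun e =>
    Invol.ne_one ht2 (conj_eq_one_iff.1 (Subtype.ext e))
  have hS'K : (S' : Subgroup N) ≤ K := by
    intro b hb
    by_cases hb1 : (b : G) = 1
    · rw [show b = 1 from Subtype.ext hb1]; exact one_mem K
    obtain ⟨y, hy, hye⟩ := P_trans h hP hs hs1 hb hb1
    rw [← show (⟨y, hPN hy⟩ : N) * (g * t * g⁻¹) * ⟨y, hPN hy⟩⁻¹ = b from Subtype.ext hye]
    exact hK.conj_mem _ hsK _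
  have hFr : M ⊔ K = ⊤ := Sylow.normalizer_sup_eq_top' S' hS'K
  have h7K : ¬ 7 ∣ Nat.card K := by
    intro h7
    refine hKt ?_
    rw [← hFr, eq_comm, sup_eq_right]
    have hPK : ∀ y ∈ P.subgroupOf N, y ∈ K := by
      intro y hy
      have h49 : ¬ 7 ∣ K.index := by
        intro h7'
        have := Nat.mul_dvd_mul h7 h7'
        rw [card_mul_index, hNc] at this
        omega
      rw [← QuotientGroup.eq_one_iff y, ← orderOf_eq_one_iff]
      refine Nat.eq_one_of_dvd_coprimes ((Nat.Prime.coprime_iff_not_dvd (by norm_num)).2 h49)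
        (orderOf_dvd_of_pow_eq_one ?_) (index_eq_card K ▸ orderOf_dvd_natCard _)
      rw [← QuotientGroup.mk_pow, show y ^ 7 = 1 from Subtype.ext (by
        have : (y : G) ^ Nat.card P = 1 := congrArg Subtype.val (pow_card_eq_one' (x := (⟨y, hy⟩ : P)))
        rw [hP.2] at this
        exact this), QuotientGroup.mk_one]
    have hMK : M ⊓ K = M := by
      refine eq_of_le_of_card_ge inf_le_left (Nat.le_trans (Nat.le_of_dvd (by norm_num) hMdvd) ?_)
      refine Nat.le_of_dvd Nat.card_pos ?_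
      rw [show (56 : ℕ) = 8 * 7 from rfl]
      refine Nat.Coprime.mul_dvd_of_dvd_of_dvd (by norm_num) (hS'c ▸ card_dvd_of_le (le_inf le_normalizer hS'K)) ?_
      rw [← hP.2, ← Nat.card_congr (subgroupOfEquivOfLe hPN).toEquiv]
      refine card_dvd_of_le (le_inf (fun y hy => ?_) hPK)
      refine Core.mem_normalizer_iff_map_conj.2 (eq_of_le_of_card_ge ?_ (by rw [card_conj]))
      rintro _ ⟨s, hs, rfl⟩
      exact conj_mem_S (S := S) (x := ((s : N) : G)) (hP.1 (show (y : G) ∈ P from hy)) hs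
    exact hMK ▸ inf_le_right
  have hMKc : M ⊓ K = (S' : Subgroup N) := by
    refine (eq_of_le_of_card_ge (le_inf le_normalizer hS'K) ?_).symm
    rw [hS'c]
    have h1 : Nat.card (M ⊓ K : Subgroup N) ∣ 56 := (card_dvd_of_le inf_le_left).trans hMdvd
    have h2 : ¬ 7 ∣ Nat.card (M ⊓ K : Subgroup N) := fun e => h7K (e.trans (card_dvd_of_le inf_le_right))
    have key : ∀ k ∈ Nat.divisors 56, ¬ 7 ∣ k → k ≤ 8 := by decide
    exact key _ (Nat.mem_divisors.2 ⟨h1, by norm_num⟩) h2
  set S'' : Sylow 2 K := S'.subtype hS'K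
  have hcent : normalizer ((S'' : Subgroup K) : Set K) ≤ centralizer ((S'' : Subgroup K) : Set K) := by
    intro x hx
    have h1 : (x : N) ∈ M ⊓ K := by
      refine ⟨Core.mem_normalizer_iff_map_conj.2 (eq_of_le_of_card_ge ?_ (by rw [card_conj])), x.2⟩
      rintro _ ⟨s, hs, rfl⟩
      exact (mem_normalizer_iff.1 hx ⟨s, hS'K hs⟩).1 hs
    rw [hMKc] at h1
    exact mem_centralizer_iff.2 fun s hs => Subtype.ext (Subtype.ext (comm h hs h1))
  set V := MonoidHom.transferSylow S'' hcent
  have hco : Odd (Nat.card V.ker) := by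
    rw [← Nat.not_even_iff_odd, even_iff_two_dvd]
    exact MonoidHom.not_dvd_card_ker_transferSylow S'' hcent
  have hbot : V.ker = ⊥ := by
    have hb := odd_bot h (O := (V.ker.map K.subtype).map N.subtype)
      (by rw [Core.card_map_subtype, Core.card_map_subtype]; exact hco) (by
      intro x hx
      refine Core.mem_normalizer_iff_map_conj.2 (eq_of_le_of_card_ge ?_ (by rw [card_conj]))
      rintro _ ⟨_, ⟨_, ⟨z, hz, rfl⟩, rfl⟩, rfl⟩
      refine ⟨_, ⟨_, (MonoidHom.normal_ker V).conj_mem z hz ⟨⟨x, hSN hx⟩, hS'K (show x ∈ (S : Subgroup G) from hx)⟩, rfl⟩, rfl⟩)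
    exact (map_eq_bot_iff_of_injective _ (subtype_injective K)).1
      ((map_eq_bot_iff_of_injective _ (subtype_injective N)).1 hb)
  have h8 : Nat.card K = 8 := by
    have h1 := (MonoidHom.ker_transferSylow_isComplement' S'' hcent).card_mul
    rw [hbot, card_bot, one_mul] at h1
    rw [← h1, ← hS'c]
    exact Nat.card_congr (subgroupOfEquivOfLe hS'K).toEquiv
  have hKS : K = (S' : Subgroup N) := (eq_of_le_of_card_ge hS'K (by rw [h8, hS'c])).symm
  have hKM : K ≤ M := hKS ▸ le_normalizer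
  rw [sup_eq_left.2 hKM] at hFr
  rw [hFr, card_top, hNc] at hMdvd
  omega

/-- A group of order 1512 as above is the automorphism group of `PSL(2, 8)`. -/
theorem iso : ∃ (F : Type) (_ : Field F) (_ : Fintype F), Fintype.card F = 8 ∧
    Nonempty (G ≃* MulAut (Matrix.ProjectiveSpecialLinearGroup (Fin 2) F)) := by
  haveI : Fact (Nat.Prime 2) := ⟨Nat.prime_two⟩
  obtain ⟨N, hN, hidx⟩ := exists_normal h
  haveI := hN
  haveI := simple h hN hidx
  haveI : Fintype (GaloisField 2 3) := Fintype.ofFinite _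
  have hF : Fintype.card (GaloisField 2 3) = 8 := by
    rw [← Nat.card_eq_fintype_card, GaloisField.card 2 3 (by norm_num)]; rfl
  refine ⟨GaloisField 2 3, inferInstance, inferInstance, hF, ?_⟩
  have hNc : Nat.card N = 504 := by
    have := card_mul_index N
    rw [hidx, card_G h] at this
    omega
  obtain ⟨e⟩ := Cfsg.Agent.S1011.result hNc hF
  have haut : Nat.card (MulAut (Matrix.ProjectiveSpecialLinearGroup (Fin 2) (GaloisField 2 3))) = 1512 := by
    rw [Cfsg.Agent.S0813.result 2 3 (by norm_num) (by rw [hF]; rfl) 2 le_rfl (fun _ => by norm_num),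
      Cfsg.Lib.Dickson.card_PGL_two_eq, hF]
    rfl
  set ψ : G →* MulAut N := MulAut.conjNormal
  have hker : ψ.ker = ⊥ := by
    have hinf : ψ.ker ⊓ N = ⊥ := by
      rcases IsSimpleGroup.eq_bot_or_eq_top_of_normal ((ψ.ker).subgroupOf N) inferInstance with h1 | h1
      · exact disjoint_iff.1 (subgroupOf_eq_bot.1 h1)
      · exfalso
        have hcomm : ∀ a b : N, a * b = b * a := fun a b => by
          have hb : (b : G) ∈ ψ.ker := by
            have : b ∈ (ψ.ker).subgroupOf N := h1 ▸ mem_top b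
            exact this
          have := congrArg (fun f : MulAut N => ((f a : N) : G)) (MonoidHom.mem_ker.1 hb)
          simp only [ψ, MulAut.conjNormal_apply, MulAut.one_apply] at this
          exact Subtype.ext (by
            show (a : G) * b = b * a
            conv_rhs => rw [← inv_mul_cancel_right ((b : G) * a) (b : G), this]
            )
        letI : CommGroup N := { (inferInstance : Group N) with mul_comm := hcomm }
        have hp : (Nat.card N).Prime := IsSimpleGroup.prime_card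
        rw [hNc] at hp
        norm_num at hp
    have hodd : Odd (Nat.card ψ.ker) := by
      have h1 : Nat.card ψ.ker ∣ 3 := by
        rw [← hidx, ← relIndex_bot_left ψ.ker, ← hinf, inf_relIndex_left]
        exact relIndex_dvd_index_of_normal N ψ.ker
      rcases (Nat.dvd_prime Nat.prime_three).1 h1 with e1 | e1 <;> rw [e1] <;> decide
    refine odd_bot h hodd fun s _ => ?_
    rw [normalizer_eq_top]
    trivial
  have hinj : Function.Injective ψ := (MonoidHom.ker_eq_bot_iff ψ).1 hker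
  refine ⟨(MulEquiv.ofBijective ψ ((Nat.bijective_iff_injective_and_card ψ).2 ⟨hinj, ?_⟩)).trans (MulAut.congr e)⟩
  rw [card_G h, Nat.card_congr (MulAut.congr e).toEquiv, haut]

end Cfsg.Lib.TwoTimesAlt.Ree
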