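import Cfsg.Agent.Lib.Invol.Embedded
import Cfsg.Agent.Lib.Coprime.Generation
import Cfsg.Agent.Lib.Core.Cores

/-!
# The group of order 1512

A finite group whose Sylow 2-subgroup is elementary of order eight, with normalizer of order 168
containing all involution centralizers (of order 24), and not normal, has order 1512.
-/

set_option autoImplicit false
set_option linter.style.haveILetI false
set_option linter.unusedSectionVars false

namespace Cfsg.Lib.TwoTimesAlt.Ree

open Subgroup MulAction Cfsg Cfsg.Lib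

variable {G : Type*} [Group G] [Finite G]

/-- The Sylow normalizer. -/
abbrev HN (S : Sylow 2 G) : Subgroup G := normalizer ((S : Subgroup G) : Set G)

/-- The hypotheses. -/
structure Hyp (S : Sylow 2 G) : Prop where
  sq : ∀ x ∈ (S : Subgroup G), x * x = 1
  card : Nat.card (S : Subgroup G) = 8
  cardH : Nat.card (HN S) = 168
  cent : ∀ t ∈ (S : Subgroup G), t ≠ 1 → Nat.card (centralizer ({t} : Set G)) = 24
  cle : ∀ t ∈ (S : Subgroup G), t ≠ 1 → centralizer ({t} : Set G) ≤ HN S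
  self : centralizer ((S : Subgroup G) : Set G) ≤ (S : Subgroup G)
  ne_top : HN S ≠ ⊤

omit [Finite G] in
theorem card_conj (H : Subgroup G) (g : G) :
    Nat.card (H.map (MulAut.conj g).toMonoidHom) = Nat.card H :=
  (Nat.card_congr ((MulAut.conj g).subgroupMap H).toEquiv).symm

variable {S : Sylow 2 G} (h : Hyp S)
include h

theorem comm {a b : G} (ha : a ∈ (S : Subgroup G)) (hb : b ∈ (S : Subgroup G)) : a * b = b * a := by
  have i : ∀ x ∈ (S : Subgroup G), x⁻¹ = x := fun x hx => inv_eq_of_mul_eq_one_right (h.sq x hx)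
  calc a * b = (a * b)⁻¹ := (i _ (mul_mem ha hb)).symm
    _ = b * a := by rw [mul_inv_rev, i a ha, i b hb]

omit h in
theorem conj_mem_S {g x : G} (hg : g ∈ HN S) (hx : x ∈ (S : Subgroup G)) : g * x * g⁻¹ ∈ (S : Subgroup G) :=
  (mem_normalizer_iff.1 hg x).1 hx

omit h in
/-- An element of two-power order has a conjugate in `S`. -/
theorem exists_conj_mem {x : G} (hx : IsPGroup 2 (zpowers x)) :
    ∃ g : G, g * x * g⁻¹ ∈ (S : Subgroup G) := by
  haveI : Fact (Nat.Prime 2) := ⟨Nat.prime_two⟩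
  obtain ⟨T, hT⟩ := hx.exists_le_sylow
  obtain ⟨g, hg⟩ := exists_smul_eq G T S
  refine ⟨g, ?_⟩
  rw [← hg, Sylow.coe_subgroup_smul]
  exact ⟨x, hT (mem_zpowers x), rfl⟩

omit h in
theorem invol_pgroup {t : G} (ht : orderOf t = 2) : IsPGroup 2 (zpowers t) :=
  IsPGroup.of_card (n := 1) (by rw [Nat.card_zpowers, ht, pow_one])

omit h in
theorem mem_of_involution {t : G} (ht : orderOf t = 2) (hH : t ∈ HN S) : t ∈ (S : Subgroup G) := by
  haveI : Fact (Nat.Prime 2) := ⟨Nat.prime_two⟩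
  have h1 := S.is_maximal' ((invol_pgroup ht).to_sup_of_normal_right' S.isPGroup' (zpowers_le.mpr hH))
    le_sup_right
  rw [← h1]
  exact mem_sup_left (mem_zpowers t)

theorem orderOf_eq_two {t : G} (ht : t ∈ (S : Subgroup G)) (ht1 : t ≠ 1) : orderOf t = 2 :=
  Invol.orderOf_eq_two_of ht1 (h.sq t ht)

theorem card_nonone : Nat.card {b : G // b ∈ (S : Subgroup G) ∧ b ≠ 1} = 7 := by
  classical
  let e : {b : G // b ∈ (S : Subgroup G) ∧ b ≠ 1} ≃ {x : (S : Subgroup G) // x ≠ 1} :=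
    ⟨fun b => ⟨⟨b.1, b.2.1⟩, fun e => b.2.2 (congrArg Subtype.val e)⟩,
      fun x => ⟨x.1.1, x.1.2, fun e => x.2 (Subtype.ext e)⟩, fun _ => rfl, fun _ => rfl⟩
  haveI := Fintype.ofFinite (S : Subgroup G)
  rw [Nat.card_congr e, Nat.card_eq_fintype_card, Fintype.card_subtype_compl, Fintype.card_subtype_eq,
    ← Nat.card_eq_fintype_card, h.card]

theorem trans {a b : G} (ha : a ∈ (S : Subgroup G)) (ha1 : a ≠ 1) (hb : b ∈ (S : Subgroup G))
    (hb1 : b ≠ 1) : ∃ g ∈ HN S, g * a * g⁻¹ = b := by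
  set Z := (centralizer ({a} : Set G)).subgroupOf (HN S)
  have hidx : Nat.card (HN S ⧸ Z) = 7 := by
    have h1 := Subgroup.card_eq_card_quotient_mul_card_subgroup Z
    rw [h.cardH, Nat.card_congr (subgroupOfEquivOfLe (h.cle a ha ha1)).toEquiv, h.cent a ha ha1] at h1
    omega
  let f : HN S ⧸ Z → {b : G // b ∈ (S : Subgroup G) ∧ b ≠ 1} := fun q =>
    ⟨(q.out : G) * a * (q.out : G)⁻¹, conj_mem_S q.out.2 ha, fun e => ha1 (conj_eq_one_iff.1 e)⟩
  have hf : Function.Injective f := by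
    intro q r e
    have e' : (q.out : G) * a * (q.out : G)⁻¹ = (r.out : G) * a * (r.out : G)⁻¹ := congrArg Subtype.val e
    rw [← QuotientGroup.out_eq' q, ← QuotientGroup.out_eq' r, QuotientGroup.eq, mem_subgroupOf,
      mem_centralizer_singleton_iff]
    show (q.out : G)⁻¹ * r.out * a = a * ((q.out : G)⁻¹ * r.out)
    calc (q.out : G)⁻¹ * r.out * a = (q.out : G)⁻¹ * ((r.out : G) * a * (r.out : G)⁻¹) * r.out := by group
      _ = a * ((q.out : G)⁻¹ * r.out) := by rw [← e']; group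
  obtain ⟨q, hq⟩ := ((Nat.bijective_iff_injective_and_card f).2 ⟨hf, by rw [hidx, card_nonone h]⟩).2
    ⟨b, hb, hb1⟩
  exact ⟨q.out, q.out.2, congrArg Subtype.val hq⟩

theorem se : IsStronglyEmbedded (HN S) := by
  refine (Invol.stronglyEmbedded_iff h.ne_top ?_).2 fun t ht ht2 g hg => ?_
  · rw [h.cardH]; decide
  have htS := mem_of_involution ht2 ht
  have hgS := mem_of_involution (by rw [Invol.orderOf_conj_eq, ht2]) hg
  have ht1 : t ≠ 1 := Invol.ne_one ht2
  obtain ⟨k, hk, hke⟩ := trans h htS ht1 hgS (fun e => ht1 (conj_eq_one_iff.1 e))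
  have hc : k⁻¹ * g ∈ centralizer ({t} : Set G) := by
    rw [mem_centralizer_singleton_iff]
    calc k⁻¹ * g * t = k⁻¹ * (g * t * g⁻¹) * g := by group
      _ = t * (k⁻¹ * g) := by rw [← hke]; group
  simpa using mul_mem hk (h.cle t htS ht1 hc)

/-- No involution commutes with an element of order seven. -/
theorem no_comm {y t : G} (hy : orderOf y = 7) (ht : orderOf t = 2) : y * t ≠ t * y := by
  intro hc
  obtain ⟨g, hg⟩ := exists_conj_mem (S := S) (invol_pgroup ht)
  have hg1 : g * t * g⁻¹ ≠ 1 := fun e => Invol.ne_one ht (conj_eq_one_iff.1 e)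
  have h7 : g * y * g⁻¹ ∈ centralizer ({g * t * g⁻¹} : Set G) := by
    rw [mem_centralizer_singleton_iff]
    calc g * y * g⁻¹ * (g * t * g⁻¹) = g * (y * t) * g⁻¹ := by group
      _ = g * t * g⁻¹ * (g * y * g⁻¹) := by rw [hc]; group
  have := h.cent _ hg hg1 ▸ orderOf_dvd_natCard _ h7
  rw [Invol.orderOf_conj_eq, hy] at this
  omega

/-- A subgroup of odd order normalized by `S` is trivial. -/
theorem odd_bot {O : Subgroup G} (hO : Odd (Nat.card O)) (hn : (S : Subgroup G) ≤ normalizer (O : Set G)) :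
    O = ⊥ := by
  haveI : IsMulCommutative (S : Subgroup G) := ⟨⟨fun a b => Subtype.ext (comm h a.2 b.2)⟩⟩
  have hnc : ¬ IsCyclic (S : Subgroup G) := by
    intro hc
    obtain ⟨g, hg⟩ := IsCyclic.exists_generator (α := (S : Subgroup G))
    have h1 : orderOf g = 8 := by rw [orderOf_eq_card_of_forall_mem_zpowers hg, h.card]
    have h2 : orderOf g ∣ 2 := orderOf_dvd_of_pow_eq_one (Subtype.ext (by
      rw [pow_two]; exact h.sq _ g.2))
    rw [h1] at h2
    omega
  refine eq_bot_iff.2 ((Coprime.le_iSup_centralizer_of_not_isCyclic hnc hn ?_).trans (iSup_le fun a => ?_))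
  · rw [h.card, show (8 : ℕ) = 2 ^ 3 from rfl]
    exact hO.coprime_two_left.pow_left 3
  intro x hx
  have hxH : x ∈ HN S := h.cle a a.2.1 a.2.2 hx.2
  have hxc : x ∈ centralizer ((S : Subgroup G) : Set G) := by
    refine mem_centralizer_iff.2 fun s hs => ?_
    have h1 : x * s * x⁻¹ * s⁻¹ ∈ (S : Subgroup G) := mul_mem (conj_mem_S hxH hs) (inv_mem hs)
    have h2 : x * s * x⁻¹ * s⁻¹ ∈ O := by
      rw [show x * s * x⁻¹ * s⁻¹ = x * (s * x⁻¹ * s⁻¹) by group]
      exact mul_mem hx.1 ((mem_normalizer_iff.1 (hn hs) _).1 (inv_mem hx.1))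
    have h3 : orderOf (x * s * x⁻¹ * s⁻¹) = 1 :=
      Nat.eq_one_of_dvd_coprimes (hO.coprime_two_left)
        (orderOf_dvd_of_pow_eq_one (by rw [pow_two]; exact h.sq _ h1)) (orderOf_dvd_natCard _ h2)
    exact (mul_inv_eq_iff_eq_mul.1 (mul_inv_eq_one.1 (orderOf_eq_one_iff.1 h3))).symm
  refine mem_bot.2 (orderOf_eq_one_iff.1 (Nat.eq_one_of_dvd_coprimes (hO.coprime_two_left)
    (orderOf_dvd_of_pow_eq_one ?_) (orderOf_dvd_natCard _ hx.1)))
  rw [pow_two]; exact h.sq _ (h.self hxc)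

/-- The coset action is faithful. -/
theorem core_eq_one {x : G} (hx : ∀ c : G ⧸ HN S, x • c = c) : x = 1 := by
  set K := (MulAction.toPermHom G (G ⧸ HN S)).ker
  have hK : ∀ y ∈ K, ∀ g : G, g⁻¹ * y * g ∈ HN S := fun y hy g =>
    Invol.smul_coset_eq_iff.1 (congrArg (fun e : Equiv.Perm _ => e (QuotientGroup.mk g : G ⧸ HN S))
      (MonoidHom.mem_ker.1 hy))
  have hodd : Odd (Nat.card K) := by
    rw [← Nat.not_even_iff_odd]
    intro he
    obtain ⟨t, ht, ht2⟩ := Invol.exists_involution_of_even he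
    obtain ⟨u, hu, hu2⟩ := Invol.se_exists_outside (se h)
    have ho := (se h).2.2 u hu
    refine (Nat.not_even_iff_odd.2 ho) ?_
    rw [even_iff_two_dvd, ← ht2]
    exact orderOf_dvd_natCard _ ⟨by simpa using hK t ht 1, Invol.mem_conjMap.2 (hK t ht u)⟩
  have hb := odd_bot h hodd fun s _ => by rw [normalizer_eq_top]; trivial
  have : x ∈ K := MonoidHom.mem_ker.2 (Equiv.ext hx)
  rwa [hb, mem_bot] at this

/-- Sylow `7`-subgroups of the normalizer. -/
def IsP7 (S : Sylow 2 G) (P : Subgroup G) : Prop := P ≤ HN S ∧ Nat.card P = 7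

omit h in
theorem orderOf_of_P7 {P : Subgroup G} (hP : IsP7 S P) {y : G} (hy : y ∈ P) (hy1 : y ≠ 1) :
    orderOf y = 7 := by
  have h1 := hP.2 ▸ orderOf_dvd_natCard P hy
  rcases (Nat.dvd_prime (by norm_num)).1 h1 with h2 | h2
  · exact absurd (orderOf_eq_one_iff.1 h2) hy1
  · exact h2

theorem P_trans {P : Subgroup G} (hP : IsP7 S P) {t b : G} (ht : t ∈ (S : Subgroup G)) (ht1 : t ≠ 1)
    (hb : b ∈ (S : Subgroup G)) (hb1 : b ≠ 1) : ∃ y ∈ P, y * t * y⁻¹ = b := by
  let f : P → {b : G // b ∈ (S : Subgroup G) ∧ b ≠ 1} := fun y =>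
    ⟨(y : G) * t * (y : G)⁻¹, conj_mem_S (hP.1 y.2) ht, fun e => ht1 (conj_eq_one_iff.1 e)⟩
  have hf : Function.Injective f := by
    intro y z e
    have e' : (y : G) * t * (y : G)⁻¹ = (z : G) * t * (z : G)⁻¹ := congrArg Subtype.val e
    by_contra hne
    refine no_comm h (y := (y : G)⁻¹ * z) (orderOf_of_P7 hP (mul_mem (inv_mem y.2) z.2) fun e1 =>
      hne (Subtype.ext (inv_mul_eq_one.1 e1))) (orderOf_eq_two h ht ht1) ?_
    calc (y : G)⁻¹ * z * t = (y : G)⁻¹ * ((z : G) * t * (z : G)⁻¹) * z := by group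
      _ = t * ((y : G)⁻¹ * z) := by rw [← e']; group
  obtain ⟨y, hy⟩ := ((Nat.bijective_iff_injective_and_card f).2 ⟨hf, by rw [hP.2, card_nonone h]⟩).2
    ⟨b, hb, hb1⟩
  exact ⟨y, y.2, congrArg Subtype.val hy⟩

theorem exists_S_ne : ∃ t ∈ (S : Subgroup G), t ≠ 1 := by
  refine ((S : Subgroup G).bot_or_exists_ne_one).resolve_left fun e => ?_
  have := h.card
  rw [e, card_bot] at this
  omega

theorem cent_P {P : Subgroup G} (hP : IsP7 S P) {x : G} (hxH : x ∈ HN S)
    (hx : ∀ y ∈ P, y * x = x * y) : x ∈ P := by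
  obtain ⟨t, ht, ht1⟩ := exists_S_ne h
  obtain ⟨y, hy, hye⟩ := P_trans h hP ht ht1 (conj_mem_S hxH ht) (fun e => ht1 (conj_eq_one_iff.1 e))
  set z := y⁻¹ * x with hz
  have hzP : ∀ w ∈ P, w * z = z * w := fun w hw => by
    haveI : IsCyclic P := isCyclic_of_prime_card (p := 7) (hp := ⟨by norm_num⟩) hP.2
    have hwy : w * y⁻¹ = y⁻¹ * w :=
      congrArg Subtype.val (mul_comm' (⟨w, hw⟩ : P) ⟨y⁻¹, inv_mem hy⟩)
    rw [hz, ← mul_assoc, hwy, mul_assoc, hx w hw, mul_assoc]
  have hzt : z * t = t * z := by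
    rw [hz]
    calc y⁻¹ * x * t = y⁻¹ * (x * t * x⁻¹) * x := by group
      _ = t * (y⁻¹ * x) := by rw [← hye]; group
  have hzc : z ∈ centralizer ((S : Subgroup G) : Set G) := by
    refine mem_centralizer_iff.2 fun b hb => ?_
    by_cases hb1 : b = 1
    · rw [hb1]; simp
    obtain ⟨w, hw, rfl⟩ := P_trans h hP ht ht1 hb hb1
    have h1 := hzP w hw
    have h2 : z * w⁻¹ = w⁻¹ * z := by
      rw [eq_inv_mul_iff_mul_eq, ← mul_assoc, h1, mul_inv_cancel_right]
    calc w * t * w⁻¹ * z = w * t * (w⁻¹ * z) := by group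
      _ = w * (t * z) * w⁻¹ := by rw [← h2]; group
      _ = (w * z) * t * w⁻¹ := by rw [← hzt]; group
      _ = z * (w * t * w⁻¹) := by rw [h1]; group
  have hz1 : z = 1 := by
    by_contra hne
    obtain ⟨w, hw, hw1⟩ := P.bot_or_exists_ne_one.resolve_left (fun e => by
      have := hP.2; rw [e, card_bot] at this; omega)
    exact no_comm h (orderOf_of_P7 hP hw hw1) (orderOf_eq_two h (h.self hzc) hne) (hzP w hw)
  rw [hz, inv_mul_eq_one] at hz1
  exact hz1 ▸ hy

theorem exists_P7 : ∃ P, IsP7 S P := by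
  haveI : Fact (Nat.Prime 7) := ⟨by norm_num⟩
  obtain ⟨y, hy⟩ := exists_prime_orderOf_dvd_card' (G := HN S) 7 (by rw [h.cardH]; norm_num)
  exact ⟨zpowers (y : G), zpowers_le.2 y.2, by rw [Nat.card_zpowers, orderOf_coe, hy]⟩

theorem norm_data {P : Subgroup G} (hP : IsP7 S P) :
    Nat.card (HN S ⊓ normalizer (P : Set G) : Subgroup G) = 21 ∧
      Nat.card {Q : Subgroup G // IsP7 S Q} = 8 ∧
      ∀ Q, IsP7 S Q → ∃ g ∈ HN S, P.map (MulAut.conj g).toMonoidHom = Q := by
  haveI : Fact (Nat.Prime 7) := ⟨by norm_num⟩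
  have hsyl : ∀ Q, IsP7 S Q → ∃ T : Sylow 7 (HN S), (T : Subgroup (HN S)) = Q.subgroupOf (HN S) := by
    intro Q hQ
    have hc : Nat.card (Q.subgroupOf (HN S)) = 7 :=
      (Nat.card_congr (subgroupOfEquivOfLe hQ.1).toEquiv).trans hQ.2
    refine ⟨(IsPGroup.of_card (n := 1) (by rw [hc, pow_one])).toSylow ?_, IsPGroup.toSylow_coe _ _⟩
    have h1 := card_mul_index (Q.subgroupOf (HN S))
    rw [hc, h.cardH] at h1
    omega
  have hcard : ∀ T : Sylow 7 (HN S), Nat.card (T : Subgroup (HN S)) = 7 := fun T => by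
    rw [T.card_eq_multiplicity, h.cardH]
    have h7 : Nat.Prime 7 := by norm_num
    rw [show (168 : ℕ) = 7 * 24 from rfl, Nat.factorization_mul (by norm_num) (by norm_num),
      Finsupp.add_apply, Nat.Prime.factorization_self h7, Nat.factorization_eq_zero_of_not_dvd (by norm_num)]
    rfl
  obtain ⟨T, hT⟩ := hsyl P hP
  set N := (HN S ⊓ normalizer (P : Set G) : Subgroup G)
  have hle : P ≤ N := le_inf hP.1 le_normalizer
  have hodd : Odd (Nat.card N) := by
    rw [← Nat.not_even_iff_odd]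
    intro he
    obtain ⟨s, hs, hs2⟩ := Invol.exists_involution_of_even he
    have hsS := mem_of_involution hs2 hs.1
    obtain ⟨y, hy, hy1⟩ := P.bot_or_exists_ne_one.resolve_left (fun e => by
      have := hP.2; rw [e, card_bot] at this; omega)
    have h1 : y * s * y⁻¹ * s⁻¹ ∈ (S : Subgroup G) := mul_mem (conj_mem_S (hP.1 hy) hsS) (inv_mem hsS)
    have h2 : y * s * y⁻¹ * s⁻¹ ∈ P := by
      rw [show y * s * y⁻¹ * s⁻¹ = y * (s * y⁻¹ * s⁻¹) by group]
      exact mul_mem hy ((mem_normalizer_iff.1 hs.2 _).1 (inv_mem hy))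
    refine no_comm h (orderOf_of_P7 hP hy hy1) hs2 ?_
    refine mul_inv_eq_iff_eq_mul.1 (mul_inv_eq_one.1 ?_)
    by_contra hne
    have := orderOf_of_P7 hP h2 hne
    rw [orderOf_eq_two h h1 hne] at this
    omega
  have hd : Nat.card N ∣ 168 := h.cardH ▸ card_dvd_of_le inf_le_left
  have h7 : 7 ∣ Nat.card N := hP.2 ▸ card_dvd_of_le hle
  have hidx : Nat.card (Sylow 7 (HN S)) * Nat.card N = 168 := by
    rw [Sylow.card_eq_index_normalizer T, ← Sylow.coe_coe T, hT, ← subgroupOf_normalizer_eq hP.1]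
    have h1 := card_mul_index ((normalizer (P : Set G)).subgroupOf (HN S))
    rw [h.cardH] at h1
    rw [mul_comm, ← inf_subgroupOf_left (normalizer (P : Set G)) (HN S)] at h1
    have hNc : Nat.card (N.subgroupOf (HN S)) = Nat.card N :=
      Nat.card_congr (subgroupOfEquivOfLe inf_le_left).toEquiv
    rw [← inf_subgroupOf_left (normalizer (P : Set G)) (HN S)]
    rw [hNc] at h1
    exact h1
  have h21 : Nat.card N = 21 := by
    have hmod := card_sylow_modEq_one 7 (HN S)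
    obtain ⟨j, hj⟩ := h7
    have hj' : j ∣ 24 := Nat.dvd_of_mul_dvd_mul_left (by norm_num : 0 < 7) (by rw [← hj]; exact hd)
    have hjo : j % 2 = 1 := by
      rw [hj] at hodd
      exact Nat.odd_iff.1 (Nat.odd_mul.1 hodd).2
    have hj24 := Nat.le_of_dvd (by norm_num) hj'
    rw [hj] at hidx ⊢
    rw [Nat.ModEq] at hmod
    interval_cases j <;> omega
  refine ⟨h21, ?_, fun Q hQ => ?_⟩
  · have e : {Q : Subgroup G // IsP7 S Q} ≃ Sylow 7 (HN S) :=
      { toFun := fun Q => (hsyl Q.1 Q.2).choose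
        invFun := fun R => ⟨(R : Subgroup (HN S)).map (HN S).subtype, map_subtype_le _, by
          rw [Core.card_map_subtype, hcard R]⟩
        left_inv := fun Q => Subtype.ext (by
          show ((hsyl Q.1 Q.2).choose : Subgroup (HN S)).map (HN S).subtype = Q.1
          rw [(hsyl Q.1 Q.2).choose_spec, map_subgroupOf_eq_of_le Q.2.1])
        right_inv := fun R => Sylow.ext (by
          have hQ : IsP7 S ((R : Subgroup (HN S)).map (HN S).subtype) :=
            ⟨map_subtype_le _, by rw [Core.card_map_subtype, hcard R]⟩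
          exact (hsyl _ hQ).choose_spec.trans (comap_map_eq_self_of_injective (subtype_injective _) _)) }
    rw [Nat.card_congr e]
    rw [h21] at hidx
    omega
  · obtain ⟨T', hT'⟩ := hsyl Q hQ
    obtain ⟨g, hg⟩ := exists_smul_eq (HN S) T T'
    refine ⟨g, g.2, ?_⟩
    rw [← map_subgroupOf_eq_of_le hQ.1, ← hT', ← hg, Sylow.coe_subgroup_smul, hT]
    ext x
    constructor
    · rintro ⟨y, hy, rfl⟩
      exact ⟨g * ⟨y, hP.1 hy⟩ * g⁻¹, ⟨⟨y, hP.1 hy⟩, hy, rfl⟩, rfl⟩
    · rintro ⟨_, ⟨z, hz, rfl⟩, rfl⟩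
      exact ⟨(z : G), hz, rfl⟩

/-- The fixed cosets. -/
abbrev Fix (S : Sylow 2 G) (P : Subgroup G) : Type _ := {c : G ⧸ HN S // ∀ y ∈ P, y • c = c}

omit h in
theorem one_fixed {P : Subgroup G} (hP : P ≤ HN S) :
    ∀ y ∈ P, y • (QuotientGroup.mk 1 : G ⧸ HN S) = QuotientGroup.mk 1 :=
  fun _ hy => Invol.smul_coset_one_eq.2 (hP hy)

theorem exists_swap {b : G ⧸ HN S} (hb : b ≠ QuotientGroup.mk 1) :
    ∃ u : G, orderOf u = 2 ∧ u • (QuotientGroup.mk 1 : G ⧸ HN S) = b ∧ u ∉ HN S := by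
  have hc : Nat.card {t : G // orderOf t = 2 ∧ t ∈ HN S} = 7 := by
    rw [← card_nonone h]
    exact Nat.card_congr ⟨fun t => ⟨t.1, mem_of_involution t.2.1 t.2.2, Invol.ne_one t.2.1⟩,
      fun t => ⟨t.1, orderOf_eq_two h t.2.1 t.2.2, le_normalizer t.2.1⟩, fun _ => rfl, fun _ => rfl⟩
  have h0 := (Invol.se_swap (se h) (Ne.symm hb)).1
  rw [hc] at h0
  obtain ⟨⟨u, hu, hue⟩⟩ := (Nat.card_pos_iff.1 (by rw [h0]; norm_num :
    0 < Nat.card (Invol.SwapSet (HN S) (QuotientGroup.mk 1) b))).1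
  exact ⟨u, hu, hue, fun hH => hb (by rw [← hue]; exact Invol.smul_coset_one_eq.2 hH)⟩

/-- Two-point stabilizers contain exactly one subgroup of order seven. -/
theorem unique_P7 {b : G ⧸ HN S} (hb : b ≠ QuotientGroup.mk 1) :
    (∃ P, IsP7 S P ∧ ∀ y ∈ P, y • b = b) ∧
      ∀ P Q, IsP7 S P → IsP7 S Q → (∀ y ∈ P, y • b = b) → (∀ y ∈ Q, y • b = b) → P = Q := by
  haveI : Fact (Nat.Prime 7) := ⟨by norm_num⟩
  obtain ⟨u, hu, hue, huH⟩ := exists_swap h hb
  set D := HN S ⊓ (HN S).map (MulAut.conj u).toMonoidHom with hD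
  have hmemD : ∀ {x : G}, x ∈ D ↔ x ∈ HN S ∧ x • b = b := by
    intro x
    rw [hD, mem_inf, Invol.mem_conjMap, ← hue, ← mul_smul, MulAction.Quotient.smul_mk,
      MulAction.Quotient.smul_mk, smul_eq_mul, smul_eq_mul, mul_one, mul_one, eq_comm (a := ((x * u : G) : G ⧸ HN S)),
      QuotientGroup.eq, ← mul_assoc]
  have hodd : Odd (Nat.card D) := (se h).2.2 u huH
  have hd : Nat.card D ∣ 168 := h.cardH ▸ card_dvd_of_le inf_le_left
  have hge : 7 ≤ Nat.card D := by
    obtain ⟨t, ht, ht1⟩ := exists_S_ne h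
    rw [← card_nonone h]
    refine Nat.card_le_card_of_surjective (fun d : D =>
      (⟨(d : G) * t * (d : G)⁻¹, conj_mem_S d.2.1 ht, fun e => ht1 (conj_eq_one_iff.1 e)⟩ :
        {b : G // b ∈ (S : Subgroup G) ∧ b ≠ 1})) fun c => ?_
    obtain ⟨d, hd, hde⟩ := Invol.se_transitive (se h) hu huH (orderOf_eq_two h ht ht1) (le_normalizer ht)
      (orderOf_eq_two h c.2.1 c.2.2) (le_normalizer c.2.1)
    exact ⟨⟨d, hd⟩, Subtype.ext hde⟩
  have h721 : Nat.card D = 7 ∨ Nat.card D = 21 := by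
    have hmem : Nat.card D ∈ Nat.divisors 168 := Nat.mem_divisors.2 ⟨hd, by norm_num⟩
    have key : ∀ k ∈ Nat.divisors 168, k % 2 = 1 → 7 ≤ k → k = 7 ∨ k = 21 := by decide
    exact key _ hmem (Nat.odd_iff.1 hodd) hge
  refine ⟨?_, fun P Q hP hQ hPb hQb => ?_⟩
  · obtain ⟨y, hy⟩ := exists_prime_orderOf_dvd_card' (G := D) 7 (by rcases h721 with e | e <;> rw [e] <;> norm_num)
    exact ⟨zpowers (y : G), ⟨zpowers_le.2 y.2.1, by rw [Nat.card_zpowers, orderOf_coe, hy]⟩,
      fun z hz => (hmemD.1 (zpowers_le.2 y.2 hz)).2⟩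
  by_contra hne
  have hinf : P ⊓ Q = ⊥ := by
    by_contra hb'
    have h1 : Nat.card (P ⊓ Q : Subgroup G) = 7 :=
      ((Nat.dvd_prime (by norm_num)).1 (hP.2 ▸ card_dvd_of_le inf_le_left)).resolve_left
        fun e => hb' (card_eq_one.1 e)
    exact hne ((eq_of_le_of_card_ge inf_le_left (by rw [h1, hP.2])).symm.trans
      (eq_of_le_of_card_ge inf_le_right (by rw [h1, hQ.2])))
  have h49 : Nat.card (P × Q) ≤ Nat.card D := by
    refine Nat.card_le_card_of_injective (fun w : P × Q =>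
      (⟨(w.1 : G) * w.2, mul_mem (hmemD.2 ⟨hP.1 w.1.2, hPb _ w.1.2⟩) (hmemD.2 ⟨hQ.1 w.2.2, hQb _ w.2.2⟩)⟩ : D))
      fun w v e => mul_injective_of_disjoint (disjoint_iff.2 hinf) (congrArg Subtype.val e)
  rw [Nat.card_prod, hP.2, hQ.2] at h49
  omega

theorem card_fix_eq {P Q : Subgroup G} (hP : IsP7 S P) (hQ : IsP7 S Q) :
    Nat.card {c : Fix S Q // c.1 ≠ QuotientGroup.mk 1} = Nat.card {c : Fix S P // c.1 ≠ QuotientGroup.mk 1} := by
  obtain ⟨g, hg, hge⟩ := (norm_data h hP).2.2 Q hQ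
  have key : ∀ c : G ⧸ HN S, (∀ y ∈ Q, y • (g • c) = g • c) ↔ ∀ y ∈ P, y • c = c := by
    intro c
    constructor
    · intro hc y hy
      have := hc (g * y * g⁻¹) (hge ▸ ⟨y, hy, rfl⟩)
      rwa [← mul_smul, inv_mul_cancel_right, mul_smul, smul_left_cancel_iff] at this
    · rintro hc y hy
      obtain ⟨x, hx, rfl⟩ := hge.symm ▸ hy
      show (g * x * g⁻¹) • (g • c) = g • c
      rw [← mul_smul, inv_mul_cancel_right, mul_smul, hc x hx]
  have key2 : ∀ c : G ⧸ HN S, g • c ≠ QuotientGroup.mk 1 ↔ c ≠ QuotientGroup.mk 1 := fun c => by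
    rw [not_iff_not]
    conv_lhs => rw [← Invol.smul_coset_one_eq.2 hg]
    exact smul_left_cancel_iff g
  refine Nat.card_congr ⟨fun c => ⟨⟨g⁻¹ • c.1.1, (key _).1 (by simpa using c.1.2)⟩,
      (key2 _).1 (by simpa using c.2)⟩,
    fun c => ⟨⟨g • c.1.1, (key _).2 c.1.2⟩, (key2 _).2 c.2⟩, fun c => ?_, fun c => ?_⟩
  · exact Subtype.ext (Subtype.ext (smul_inv_smul g c.1.1))
  · exact Subtype.ext (Subtype.ext (inv_smul_smul g c.1.1))

theorem count {P : Subgroup G} (hP : IsP7 S P) :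
    Nat.card {c : G ⧸ HN S // c ≠ QuotientGroup.mk 1} =
      8 * Nat.card {c : Fix S P // c.1 ≠ QuotientGroup.mk 1} := by
  classical
  haveI : Fintype {Q : Subgroup G // IsP7 S Q} := Fintype.ofFinite _
  let e : (Σ Q : {Q : Subgroup G // IsP7 S Q}, {c : Fix S Q.1 // c.1 ≠ QuotientGroup.mk 1}) →
      {c : G ⧸ HN S // c ≠ QuotientGroup.mk 1} := fun w => ⟨w.2.1.1, w.2.2⟩
  have he : Function.Bijective e := by
    refine ⟨?_, fun c => ?_⟩
    · rintro ⟨⟨Q, hQ⟩, ⟨c, hc⟩, hc1⟩ ⟨⟨Q', hQ'⟩, ⟨c', hc'⟩, hc1'⟩ eq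
      have ec : c = c' := congrArg Subtype.val eq
      subst ec
      have eQ := (unique_P7 h hc1).2 Q Q' hQ hQ' hc hc'
      subst eQ
      rfl
    · obtain ⟨Q, hQ, hQc⟩ := (unique_P7 h c.2).1
      exact ⟨⟨⟨Q, hQ⟩, ⟨c.1, hQc⟩, c.2⟩, rfl⟩
  rw [← Nat.card_eq_of_bijective e he, Nat.card_sigma,
    Finset.sum_congr rfl (fun Q _ => card_fix_eq h hP Q.2), Finset.sum_const, Finset.card_univ,
    ← Nat.card_eq_fintype_card, (norm_data h hP).2.1, smul_eq_mul]

theorem card_normalizer {P : Subgroup G} (hP : IsP7 S P) :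
    Nat.card (Fix S P) * 21 = Nat.card (normalizer (P : Set G)) := by
  set N := normalizer (P : Set G)
  have hsm : ∀ (g : N) (c : Fix S P), ∀ y ∈ P, y • ((g : G) • c.1) = (g : G) • c.1 := fun g c y hy => by
    have h1 : (g : G)⁻¹ * y * (g : G) ∈ P := (mem_normalizer_iff''.1 g.2 y).1 hy
    conv_rhs => rw [← c.2 _ h1]
    rw [← mul_smul, ← mul_smul]
    congr 1
    group
  letI : MulAction N (Fix S P) :=
    { smul := fun g c => ⟨(g : G) • c.1, hsm g c⟩
      one_smul := fun c => Subtype.ext (one_smul G c.1)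
      mul_smul := fun a b c => Subtype.ext (mul_smul (a : G) (b : G) c.1) }
  let o : Fix S P := ⟨QuotientGroup.mk 1, one_fixed hP.1⟩
  have ht : ∀ c : Fix S P, ∃ g : N, g • o = c := by
    rintro ⟨c, hc⟩
    obtain ⟨g, rfl⟩ := QuotientGroup.mk_surjective c
    have hQ : IsP7 S (P.map (MulAut.conj g⁻¹).toMonoidHom) := by
      refine ⟨?_, by rw [card_conj, hP.2]⟩
      rintro _ ⟨y, hy, rfl⟩
      show g⁻¹ * y * g⁻¹⁻¹ ∈ HN S
      rw [inv_inv]
      exact Invol.smul_coset_eq_iff.1 (hc y hy)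
    obtain ⟨k, hk, hke⟩ := (norm_data h hP).2.2 _ hQ
    have hn : g * k ∈ N := by
      rw [Core.mem_normalizer_iff_map_conj]
      rw [show (MulAut.conj (g * k)).toMonoidHom = (MulAut.conj g).toMonoidHom.comp (MulAut.conj k).toMonoidHom by
        ext x; simp [mul_assoc], ← map_map, hke, map_map]
      rw [show (MulAut.conj g).toMonoidHom.comp (MulAut.conj g⁻¹).toMonoidHom = MonoidHom.id G by
        ext x; simp [mul_assoc], map_id]
    refine ⟨⟨g * k, hn⟩, Subtype.ext ?_⟩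
    show (g * k) • (QuotientGroup.mk 1 : G ⧸ HN S) = QuotientGroup.mk g
    rw [MulAction.Quotient.smul_mk, smul_eq_mul, mul_one, QuotientGroup.eq, mul_inv_rev,
      inv_mul_cancel_right]
    exact inv_mem hk
  haveI : IsPretransitive N (Fix S P) := ⟨fun a b => by
    obtain ⟨x, rfl⟩ := ht a
    obtain ⟨y, rfl⟩ := ht b
    exact ⟨y * x⁻¹, by rw [← mul_smul, inv_mul_cancel_right]⟩⟩
  have hst : stabilizer N o = (HN S ⊓ N).subgroupOf N := by
    ext g
    rw [mem_stabilizer_iff, mem_subgroupOf, mem_inf]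
    constructor
    · exact fun e => ⟨Invol.smul_coset_one_eq.1 (congrArg Subtype.val e), g.2⟩
    · exact fun e => Subtype.ext (Invol.smul_coset_one_eq.2 e.1)
  rw [← index_stabilizer_of_transitive N o, mul_comm, ← (norm_data h hP).1, hst]
  rw [← Nat.card_congr (subgroupOfEquivOfLe (inf_le_right : HN S ⊓ N ≤ N)).toEquiv, card_mul_index]

theorem card_G : Nat.card G = 1512 := by
  haveI : Fact (Nat.Prime 7) := ⟨by norm_num⟩
  haveI : Fact (Nat.Prime 3) := ⟨by norm_num⟩
  haveI : Fact (Nat.Prime 2) := ⟨Nat.prime_two⟩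
  obtain ⟨P, hP⟩ := exists_P7 h
  haveI : IsCyclic P := isCyclic_of_prime_card (p := 7) hP.2
  set N := normalizer (P : Set G)
  set C := centralizer (P : Set G)
  set k := Nat.card {c : Fix S P // c.1 ≠ QuotientGroup.mk 1} with hk
  -- the index
  have hn : Nat.card (G ⧸ HN S) = 1 + 8 * k := by
    rw [hk, ← count h hP]
    classical
    haveI := Fintype.ofFinite (G ⧸ HN S)
    rw [Nat.card_eq_fintype_card, Nat.card_eq_fintype_card, Fintype.card_subtype_compl,
      Fintype.card_subtype_eq]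
    have : 0 < Fintype.card (G ⧸ HN S) := Fintype.card_pos
    omega
  have hf : Nat.card (Fix S P) = 1 + k := by
    classical
    haveI := Fintype.ofFinite (Fix S P)
    rw [hk, Nat.card_eq_fintype_card, Nat.card_eq_fintype_card, Fintype.card_subtype_compl]
    have h1 : Fintype.card {c : Fix S P // c.1 = QuotientGroup.mk 1} = 1 := by
      rw [Fintype.card_eq_one_iff]
      exact ⟨⟨⟨QuotientGroup.mk 1, one_fixed hP.1⟩, rfl⟩, fun c => Subtype.ext (Subtype.ext c.2)⟩
    rw [h1]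
    have : 0 < Fintype.card (Fix S P) := Fintype.card_pos_iff.2 ⟨⟨QuotientGroup.mk 1, one_fixed hP.1⟩⟩
    omega
  have hkpos : 0 < k := by
    by_contra hk0
    rw [show k = 0 by omega] at hn
    exact h.ne_top (index_eq_one.1 (by rw [index_eq_card]; omega))
  -- the centralizer of `P` has odd order
  have hCodd : Odd (Nat.card C) := by
    rw [← Nat.not_even_iff_odd]
    intro he
    obtain ⟨s, hs, hs2⟩ := Invol.exists_involution_of_even he
    obtain ⟨y, hy, hy1⟩ := P.bot_or_exists_ne_one.resolve_left (fun e => by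
      have := hP.2; rw [e, card_bot] at this; omega)
    exact no_comm h (orderOf_of_P7 hP hy hy1) hs2 (mem_centralizer_iff.1 hs y hy)
  have hCN : C ≤ N := centralizer_le_normalizer _
  -- the automizer
  have hNC : Nat.card N = 6 * Nat.card C := by
    set φ := P.normalizerMonoidHom
    have hker : Nat.card φ.ker = Nat.card C := by
      rw [normalizerMonoidHom_ker, Nat.card_congr (subgroupOfEquivOfLe hCN).toEquiv]
    have haut : Nat.card (MulAut P) = 6 := by
      rw [IsCyclic.card_mulAut, hP.2, Nat.totient_prime (by norm_num)]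
    have hmem : ∀ g : N, φ g = 1 ↔ (g : G) ∈ C := fun g => by
      rw [← MonoidHom.mem_ker, normalizerMonoidHom_ker, mem_subgroupOf]
    have h3 : 3 ∣ Nat.card φ.range := by
      obtain ⟨d, hd⟩ := exists_prime_orderOf_dvd_card' (G := (HN S ⊓ N : Subgroup G)) 3
        (by rw [(norm_data h hP).1]; norm_num)
      have hdo : orderOf (d : G) = 3 := by rw [orderOf_coe, hd]
      set d' : N := ⟨d, d.2.2⟩
      have h1 : φ d' ≠ 1 := fun e => by
        have hdP := cent_P h hP d.2.1 fun y hy => mem_centralizer_iff.1 ((hmem d').1 e) y hy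
        have := orderOf_dvd_natCard P hdP
        rw [hdo, hP.2] at this
        omega
      rw [← orderOf_eq_prime (p := 3) (x := φ d') (by
        rw [← map_pow, show d' ^ 3 = 1 from Subtype.ext (hdo ▸ pow_orderOf_eq_one (d : G)), map_one]) h1]
      exact orderOf_dvd_natCard _ ⟨d', rfl⟩
    have h2 : 2 ∣ Nat.card φ.range := by
      obtain ⟨⟨⟨b, hb⟩, hb1⟩⟩ := (Nat.card_pos_iff.1 hkpos).1
      obtain ⟨u, hu, hue, huH⟩ := exists_swap h hb1
      have hub : u • b = QuotientGroup.mk 1 := by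
        have h0 := congrArg (u • ·) hue.symm
        simp only at h0
        rw [h0, ← mul_smul, show u * u = 1 by rw [← pow_two, ← hu]; exact pow_orderOf_eq_one u, one_smul]
      have hu' : u ∈ N := by
        refine Core.mem_normalizer_iff_map_conj.2 ?_
        have hQ : IsP7 S (P.map (MulAut.conj u).toMonoidHom) := by
          refine ⟨?_, by rw [card_conj, hP.2]⟩
          rintro _ ⟨y, hy, rfl⟩
          refine Invol.smul_coset_one_eq.1 ?_
          show (u * y * u⁻¹) • _ = _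
          rw [Invol.inv_eq_self hu, mul_smul, mul_smul, hue, hb y hy, hub]
        refine (unique_P7 h hb1).2 _ _ hQ hP ?_ hb
        rintro _ ⟨y, hy, rfl⟩
        show (u * y * u⁻¹) • b = b
        rw [Invol.inv_eq_self hu, mul_smul, mul_smul, hub, one_fixed hP.1 y hy, hue]
      have h1 : φ ⟨u, hu'⟩ ≠ 1 := fun e => by
        have := orderOf_dvd_natCard C ((hmem _).1 e)
        rw [hu] at this
        exact (Nat.not_even_iff_odd.2 hCodd) (even_iff_two_dvd.2 this)
      rw [← orderOf_eq_prime (p := 2) (x := φ ⟨u, hu'⟩) (by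
        rw [← map_pow, show (⟨u, hu'⟩ : N) ^ 2 = 1 from Subtype.ext (hu ▸ pow_orderOf_eq_one u), map_one]) h1]
      exact orderOf_dvd_natCard _ ⟨_, rfl⟩
    have h6 : Nat.card φ.range = 6 :=
      Nat.dvd_antisymm (haut ▸ card_subgroup_dvd_card φ.range) (Nat.Coprime.mul_dvd_of_dvd_of_dvd (by norm_num) h2 h3)
    have := Subgroup.card_eq_card_quotient_mul_card_subgroup φ.ker
    rw [Nat.card_congr (QuotientGroup.quotientKerEquivRange φ).toEquiv, h6, hker] at this
    exact this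
  obtain ⟨c, hc⟩ : 7 ∣ Nat.card C := hP.2 ▸ card_dvd_of_le (le_centralizer (H := P))
  have hfN := card_normalizer h hP
  rw [hf, hNC, hc] at hfN
  have hG : Nat.card G = 168 * (1 + 8 * k) := by
    rw [← hn, ← h.cardH, mul_comm, ← Subgroup.card_eq_card_quotient_mul_card_subgroup]
  have hk2 : k + 1 = 2 * c := by omega
  have hdvd : 42 * c ∣ 168 * (1 + 8 * k) := by
    rw [← hG, show 42 * c = 6 * (7 * c) by ring, ← hc, ← hNC]
    exact card_subgroup_dvd_card N
  have hco : c % 2 = 1 := by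
    rw [hc] at hCodd
    exact Nat.odd_iff.1 (Nat.odd_mul.1 hCodd).2
  have hc28 : c ∣ 28 := by
    have h1 : c ∣ 4 * (1 + 8 * k) :=
      Nat.dvd_of_mul_dvd_mul_left (by norm_num : 0 < 42) (by rwa [← mul_assoc])
    have h2 : c ∣ 4 * (1 + 8 * k) + 28 := ⟨64, by omega⟩
    exact (Nat.dvd_add_right h1).1 h2
  have hcase : c = 1 ∨ c = 7 := by
    have := Nat.le_of_dvd (by norm_num) hc28
    interval_cases c <;> omega
  rcases hcase with rfl | rfl
  · omega
  -- the case `c = 7` is impossible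
  exfalso
  have hA : Nat.card C = 49 := by omega
  have hG' : Nat.card G = 17640 := by omega
  haveI : IsMulCommutative C :=
    ⟨⟨fun a b => IsPGroup.commutative_of_card_eq_prime_sq (p := 7) (by rw [hA]; rfl) a b⟩⟩
  have hCidx : C.index = 360 := by
    have := card_mul_index C
    rw [hA, hG'] at this
    omega
  let T : Sylow 7 G := (IsPGroup.of_card (n := 2) (by rw [hA]; rfl) : IsPGroup 7 C).toSylow
    (by rw [hCidx]; norm_num)
  have hT : (T : Subgroup G) = C := IsPGroup.toSylow_coe _ _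
  set M := normalizer (C : Set G)
  have hNM : N ≤ M := fun g hg => by
    refine Core.mem_normalizer_iff_map_conj.2 (eq_of_le_of_card_ge ?_ (by rw [card_conj]))
    rintro _ ⟨x, hx, rfl⟩
    refine mem_centralizer_iff.2 fun y hy => ?_
    have hx' := mem_centralizer_iff.1 hx _ ((mem_normalizer_iff''.1 hg y).1 hy)
    show y * (g * x * g⁻¹) = g * x * g⁻¹ * y
    calc y * (g * x * g⁻¹) = g * (g⁻¹ * y * g * x) * g⁻¹ := by group
      _ = g * x * g⁻¹ * y := by rw [hx']; group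
  have hMidx := Sylow.card_eq_index_normalizer T
  rw [← Sylow.coe_coe T, hT] at hMidx
  have hmod := card_sylow_modEq_one 7 G
  rw [hMidx, Nat.ModEq] at hmod
  have h8 : 2 ^ 3 ∣ Nat.card M := by
    obtain ⟨j, hj⟩ := (show 294 ∣ Nat.card M by
      have := card_dvd_of_le hNM; rwa [hNC, hA] at this)
    have hMi : 294 * j * M.index = 17640 := by rw [← hj, card_mul_index, hG']
    have hdiv : M.index ∣ 60 := ⟨j, by
      have : 294 * (j * M.index) = 294 * 60 := by rw [← mul_assoc, hMi]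
      have := Nat.eq_of_mul_eq_mul_left (by norm_num) this
      rw [← this, mul_comm]⟩
    have hmem : M.index ∈ Nat.divisors 60 := Nat.mem_divisors.2 ⟨hdiv, by norm_num⟩
    have key : ∀ i ∈ Nat.divisors 60, i % 7 = 1 → i = 1 ∨ i = 15 := by decide
    rcases key _ hmem hmod with e | e <;> rw [e] at hMi <;> rw [hj] <;> omega
  obtain ⟨T₂, hT₂⟩ := Sylow.exists_subgroup_card_pow_prime (G := M) 2 h8
  set T₂' := T₂.map M.subtype
  have hT₂c : Nat.card T₂' = 8 := by rw [Core.card_map_subtype, hT₂]; rfl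
  have hT₂p : IsPGroup 2 T₂' := IsPGroup.of_card (n := 3) hT₂c
  obtain ⟨R, hR⟩ := hT₂p.exists_le_sylow
  obtain ⟨g, hg⟩ := exists_smul_eq G R S
  have hO := odd_bot h (O := C.map (MulAut.conj g).toMonoidHom) (by rw [card_conj, hA]; decide) (by
    intro s hs
    have hs' : s ∈ T₂'.map (MulAut.conj g).toMonoidHom := by
      rw [eq_of_le_of_card_ge (show T₂'.map (MulAut.conj g).toMonoidHom ≤ (S : Subgroup G) from by
        rw [← hg, Sylow.coe_subgroup_smul]; exact map_mono hR) (by rw [h.card, card_conj, hT₂c])]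
      exact hs
    obtain ⟨x, hx, rfl⟩ := hs'
    exact le_normalizer_map _ ⟨x, map_subtype_le _ hx, rfl⟩)
  rw [map_eq_bot_iff_of_injective _ (MulAut.conj g).injective] at hO
  rw [hO, card_bot] at hA
  omega

theorem card_coset : Nat.card (G ⧸ HN S) = 9 := by
  have h1 := Subgroup.card_eq_card_quotient_mul_card_subgroup (HN S)
  rw [card_G h, h.cardH] at h1
  omega

end Cfsg.Lib.TwoTimesAlt.Ree
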